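import Mathlib

set_option autoImplicit false

/-!
# Prime graph toolkit, part 1: elements of order `p * q`, semiregular conjugation actions
-/

namespace Cfsg.Agent.Lib.Helper5.PG

open Subgroup

variable {G : Type*} [Group G]

/-- There is no element of order `k`. -/
def NoOrd (G : Type*) [Group G] (k : ℕ) : Prop := ∀ g : G, orderOf g ≠ k

theorem NoOrd.symm {p q : ℕ} (h : NoOrd G (p * q)) : NoOrd G (q * p) := by
  rw [mul_comm]; exact h

/-- Commuting elements of distinct prime orders give an element of order the product. -/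
theorem orderOf_mul_of_commute {p q : ℕ} (hp : p.Prime) (hq : q.Prime) (hpq : p ≠ q)
    {x y : G} (hx : orderOf x = p) (hy : orderOf y = q) (hc : x * y = y * x) :
    orderOf (x * y) = p * q := by
  have h := Commute.orderOf_mul_eq_mul_orderOf_of_coprime (x := x) (y := y) hc
    (by rw [hx, hy]; exact (Nat.coprime_primes hp hq).mpr hpq)
  rw [h, hx, hy]

/-- If there is no element of order `p * q`, elements of orders `p` and `q` do not commute. -/
theorem NoOrd.not_commute {p q : ℕ} (h : NoOrd G (p * q)) (hp : p.Prime) (hq : q.Prime)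
    (hpq : p ≠ q) {x y : G} (hx : orderOf x = p) (hy : orderOf y = q) : x * y ≠ y * x :=
  fun hc => h _ (orderOf_mul_of_commute hp hq hpq hx hy hc)

/-- A nontrivial element of `r`-power order has a power of order `r`. -/
theorem exists_pow_orderOf_prime {r : ℕ} (hr : r.Prime) {z : G} (hz1 : z ≠ 1) {k : ℕ}
    (hz : z ^ r ^ k = 1) : ∃ m : ℕ, orderOf (z ^ m) = r := by
  have hdvd : orderOf z ∣ r ^ k := orderOf_dvd_of_pow_eq_one hz
  obtain ⟨j, hj, hoj⟩ := (Nat.dvd_prime_pow hr).mp hdvd
  have hj0 : j ≠ 0 := by
    rintro rfl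
    rw [pow_zero, orderOf_eq_one_iff] at hoj
    exact hz1 hoj
  obtain ⟨i, rfl⟩ := Nat.exists_eq_succ_of_ne_zero hj0
  refine ⟨r ^ i, ?_⟩
  have hpos : 0 < orderOf z := by rw [hoj]; exact pow_pos hr.pos _
  rw [orderOf_pow' z (pow_ne_zero i hr.ne_zero), hoj, Nat.gcd_eq_right (pow_dvd_pow r (Nat.le_succ i)),
    pow_succ, Nat.mul_div_cancel_left _ (pow_pos hr.pos i)]

/-- With no element of order `r * s`, an element of order `s` commutes with no nontrivial
`r`-element. -/
theorem NoOrd.eq_one_of_commute {r s : ℕ} (h : NoOrd G (r * s)) (hr : r.Prime) (hs : s.Prime)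
    (hrs : r ≠ s) {y z : G} (hy : orderOf y = s) {k : ℕ} (hz : z ^ r ^ k = 1)
    (hc : y * z = z * y) : z = 1 := by
  by_contra hz1
  obtain ⟨m, hm⟩ := exists_pow_orderOf_prime hr hz1 hz
  have hc' : z ^ m * y = y * z ^ m := by
    have : Commute y z := hc
    exact (this.pow_right m).eq.symm
  exact h.not_commute hr hs hrs hm hy hc'

section semiregular

variable [Finite G]

/-- If `y` has prime order `s` and normalizes the subgroup `R`, then `|R|` is congruent to
`|C_R(y)|` modulo `s`. -/
theorem card_modEq_card_inf_centralizer {s : ℕ} [hs : Fact s.Prime] {y : G} (hy : y ^ s = 1)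
    (R : Subgroup G) (hn : ∀ r ∈ R, y * r * y⁻¹ ∈ R) :
    Nat.card R ≡ Nat.card (R ⊓ centralizer ({y} : Set G) : Subgroup G) [MOD s] := by
  classical
  haveI : Fintype R := Fintype.ofFinite R
  let f : Function.End R := fun r => ⟨y * r * y⁻¹, hn r r.2⟩
  have hfpow : ∀ n : ℕ, ∀ r : R, ((f ^ n) r : G) = y ^ n * r * (y ^ n)⁻¹ := by
    intro n
    induction n with
    | zero =>
      intro r
      rw [pow_zero, pow_zero]
      change ((r : R) : G) = 1 * (r : G) * 1⁻¹
      group
    | succ n ih =>
      intro r
      rw [pow_succ']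
      change y * ((f ^ n) r : G) * y⁻¹ = _
      rw [ih r, pow_succ']
      group
  have hf : f ^ s ^ 1 = 1 := by
    rw [pow_one]
    funext r
    apply Subtype.ext
    rw [hfpow s r, hy]
    change 1 * (r : G) * 1⁻¹ = ((r : R) : G)
    group
  have key := Equiv.Perm.card_fixedPoints_modEq (f := f) (p := s) (n := 1) hf
  rw [Nat.card_eq_fintype_card]
  refine key.trans ?_
  rw [← Nat.card_eq_fintype_card]
  have e : (Function.fixedPoints f) ≃ (R ⊓ centralizer ({y} : Set G) : Subgroup G) :=
    { toFun := fun r => ⟨(r.1 : G), by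
        refine ⟨r.1.2, ?_⟩
        change (r.1 : G) ∈ centralizer ({y} : Set G)
        rw [mem_centralizer_iff]
        intro h hh
        rw [Set.mem_singleton_iff] at hh
        rw [hh]
        have h1 : f r.1 = r.1 := r.2
        have h2 : y * (r.1 : G) * y⁻¹ = (r.1 : G) := congrArg Subtype.val h1
        have : y * (r.1 : G) = (r.1 : G) * y := by
          calc y * (r.1 : G) = (y * (r.1 : G) * y⁻¹) * y := by group
            _ = (r.1 : G) * y := by rw [h2]
        exact this⟩
      invFun := fun z => ⟨⟨(z : G), z.2.1⟩, by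
        change f _ = _
        apply Subtype.ext
        change y * (z : G) * y⁻¹ = (z : G)
        have h1 := (mem_centralizer_iff.mp z.2.2) y (Set.mem_singleton y)
        rw [h1]; group⟩
      left_inv := fun r => by rfl
      right_inv := fun z => by rfl }
  rw [Nat.card_congr e]

/-- A semiregular action: if no nontrivial element of the `r`-group `R` commutes with an
element of order `s` (as when there is no element of order `r * s`), then `|R| ≡ 1 (mod s)`. -/
theorem NoOrd.card_modEq_one {r s : ℕ} (h : NoOrd G (r * s)) (hr : r.Prime) [hs : Fact s.Prime]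
    (hrs : r ≠ s) {y : G} (hy : orderOf y = s) (R : Subgroup G) (hR : IsPGroup r R)
    (hn : ∀ x ∈ R, y * x * y⁻¹ ∈ R) : Nat.card R ≡ 1 [MOD s] := by
  have hys : y ^ s = 1 := by rw [← hy]; exact pow_orderOf_eq_one y
  have key := card_modEq_card_inf_centralizer hys R hn
  have hbot : (R ⊓ centralizer ({y} : Set G) : Subgroup G) = ⊥ := by
    rw [eq_bot_iff]
    intro z hz
    rw [mem_bot]
    obtain ⟨k, hk⟩ := hR ⟨z, hz.1⟩
    have hk' : z ^ r ^ k = 1 := by
      have := congrArg Subtype.val hk
      simpa using this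
    have hc := (mem_centralizer_iff.mp hz.2) y (Set.mem_singleton y)
    exact h.eq_one_of_commute hr hs.out hrs hy hk' hc
  rw [hbot] at key
  simpa using key

end semiregular

end Cfsg.Agent.Lib.Helper5.PG
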