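import Mathlib
import Cfsg.Agent.Lib.Helper5.PG.PG1
import Cfsg.Agent.Lib.Helper3.NC

set_option autoImplicit false

/-!
# Prime graph toolkit, part 2: Frattini index lemma, normalizers and centralizers of Sylow
subgroups of prime order, normal complements
-/

namespace Cfsg.Agent.Lib.Helper5.PG

open Subgroup

variable {G : Type*} [Group G]

theorem card_mul_relIndex {H K : Subgroup G} (h : H ≤ K) :
    Nat.card H * H.relIndex K = Nat.card K := by
  have h1 := (H.subgroupOf K).card_mul_index
  rwa [Nat.card_congr (Subgroup.subgroupOfEquivOfLe h).toEquiv] at h1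

variable [Finite G]

/-- Cauchy inside a subgroup. -/
theorem exists_mem_orderOf_eq {s : ℕ} [hs : Fact s.Prime] (H : Subgroup G)
    (h : s ∣ Nat.card H) : ∃ y ∈ H, orderOf y = s := by
  obtain ⟨y, hy⟩ := exists_prime_orderOf_dvd_card' s h
  exact ⟨y, y.2, by rw [Subgroup.orderOf_coe, hy]⟩

/-- A Sylow `r`-subgroup of a normal subgroup `N`, as a subgroup of `G`, together with the
Frattini argument in index form. -/
theorem exists_sylow_sub' (N : Subgroup G) [N.Normal] (r : ℕ) [hr : Fact r.Prime] :
    ∃ R : Subgroup G, R ≤ N ∧ IsPGroup r R ∧ Nat.card R = r ^ (Nat.card N).factorization r ∧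
      Nat.card (N ⊓ normalizer (R : Set G) : Subgroup G) * N.index
        = Nat.card (normalizer (R : Set G)) := by
  obtain ⟨R⟩ : Nonempty (Sylow r N) := inferInstance
  refine ⟨(R : Subgroup N).map N.subtype, Subgroup.map_subtype_le _, R.2.map _, ?_, ?_⟩
  · rw [Subgroup.card_subtype, Sylow.card_eq_multiplicity]
  · have h1 := Sylow.normalizer_sup_eq_top R
    have h2 : N.relIndex (normalizer (((R : Subgroup N).map N.subtype : Subgroup G) : Set G) ⊔ N)
        = N.relIndex (normalizer (((R : Subgroup N).map N.subtype : Subgroup G) : Set G)) :=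
      Subgroup.relIndex_sup_right _ N
    rw [h1, Subgroup.relIndex_top_right] at h2
    rw [h2, ← Subgroup.inf_relIndex_right]
    exact card_mul_relIndex inf_le_right

theorem exists_sylow_sub (N : Subgroup G) [N.Normal] (r : ℕ) [hr : Fact r.Prime] :
    ∃ R : Subgroup G, R ≤ N ∧ IsPGroup r R ∧ Nat.card R = r ^ (Nat.card N).factorization r ∧
      N.index ∣ Nat.card (normalizer (R : Set G)) := by
  obtain ⟨R, h1, h2, h3, h4⟩ := exists_sylow_sub' N r
  exact ⟨R, h1, h2, h3, ⟨_, by rw [← h4, mul_comm]⟩⟩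

/-- The key congruence: if `N` is normal, `s` divides `|G : N|` and there is no element of
order `r * s`, then the `r`-part of `|N|` is `1` modulo `s`. -/
theorem NoOrd.rpart_modEq_one {r s : ℕ} (h : NoOrd G (r * s)) [hr : Fact r.Prime]
    [hs : Fact s.Prime] (hrs : r ≠ s) (N : Subgroup G) [N.Normal] (hsN : s ∣ N.index) :
    r ^ (Nat.card N).factorization r ≡ 1 [MOD s] := by
  obtain ⟨R, -, hR, hcard, hidx⟩ := exists_sylow_sub N r
  obtain ⟨y, hyN, hy⟩ := exists_mem_orderOf_eq (s := s) _ (dvd_trans hsN hidx)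
  rw [← hcard]
  refine h.card_modEq_one hr.out hrs hy R hR ?_
  intro x hx
  exact (Subgroup.mem_normalizer_iff.mp hyN x).mp hx

/-- `|N_G(P)| * n_p = |G|`. -/
theorem card_normalizer_mul_card_sylow {p : ℕ} [Fact p.Prime] (P : Sylow p G) :
    Nat.card (normalizer ((P : Subgroup G) : Set G)) * Nat.card (Sylow p G) = Nat.card G := by
  rw [Sylow.card_eq_index_normalizer P]
  exact Subgroup.card_mul_index _

/-- For `P` of prime order `p`: `|C_G(P)| * d = |N_G(P)|` with `d ∣ p - 1`. -/
theorem exists_card_centralizer_mul {p : ℕ} [hp : Fact p.Prime] (P : Subgroup G)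
    (hP : Nat.card P = p) :
    ∃ d : ℕ, d ∣ p - 1 ∧
      Nat.card (centralizer (P : Set G)) * d = Nat.card (normalizer (P : Set G)) := by
  refine ⟨(centralizer (P : Set G)).relIndex (normalizer (P : Set G)), ?_, ?_⟩
  · have h1 := Cfsg.Agent.Lib.Helper3.relIndex_centralizer_normalizer_dvd_card_mulAut P
    haveI : IsCyclic P := isCyclic_of_prime_card hP
    rwa [IsCyclic.card_mulAut, hP, Nat.totient_prime hp.out] at h1
  · exact card_mul_relIndex (Subgroup.centralizer_le_normalizer _)

/-- A subgroup of prime order lies in its centralizer. -/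
theorem le_centralizer_of_card_prime {p : ℕ} [hp : Fact p.Prime] (P : Subgroup G)
    (hP : Nat.card P = p) : P ≤ centralizer (P : Set G) := by
  haveI : IsCyclic P := isCyclic_of_prime_card hP
  intro x hx y hy
  have := (IsCyclic.commGroup (α := P)).mul_comm ⟨y, hy⟩ ⟨x, hx⟩
  exact congrArg Subtype.val this

/-- With no element of order `p * q`, the prime `q` does not divide `|C_G(P)|`, `|P| = p`. -/
theorem NoOrd.not_dvd_card_centralizer {p q : ℕ} (h : NoOrd G (p * q)) [hp : Fact p.Prime]
    [hq : Fact q.Prime] (hpq : p ≠ q) (P : Subgroup G) (hP : Nat.card P = p) :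
    ¬ q ∣ Nat.card (centralizer (P : Set G)) := by
  intro hdvd
  obtain ⟨y, hyC, hy⟩ := exists_mem_orderOf_eq (s := q) _ hdvd
  obtain ⟨x, hxP, hx⟩ := exists_mem_orderOf_eq (s := p) P (by rw [hP])
  have hc : x * y = y * x := ((Subgroup.mem_centralizer_iff.mp hyC) x hxP)
  exact h.not_commute hp.out hq.out hpq hx hy hc

end Cfsg.Agent.Lib.Helper5.PG
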