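import Mathlib

set_option autoImplicit false

/-!
# A parity lemma: permutations of order dividing four whose square has a single fixed point
-/

namespace Cfsg.Agent.Lib.Helper5.PG

open Equiv.Perm

variable {Ω : Type*} [Fintype Ω] [DecidableEq Ω]

/-- If `σ ^ 4 = 1`, the square of `σ` has exactly one fixed point `ω₀`, and the number of points
is `5` modulo `8`, then `σ` is an odd permutation. -/
theorem sign_eq_neg_one_of_pow_four (σ : Equiv.Perm Ω) (h4 : σ ^ 4 = 1) (ω₀ : Ω)
    (h0 : (σ ^ 2) ω₀ = ω₀) (huniq : ∀ ω, (σ ^ 2) ω = ω → ω = ω₀) (m : ℕ)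
    (hcard : Fintype.card Ω = 8 * m + 5) : Equiv.Perm.sign σ = -1 := by
  -- `ω₀` is fixed by `σ`
  have hσ0 : σ ω₀ = ω₀ := by
    apply huniq
    have : (σ ^ 2) (σ ω₀) = σ ((σ ^ 2) ω₀) := by
      rw [← Equiv.Perm.mul_apply, ← Equiv.Perm.mul_apply, ← pow_succ, ← pow_succ']
    rw [this, h0]
  -- the support of `σ` is the complement of `ω₀`
  have hsupp : σ.support = Finset.univ.erase ω₀ := by
    ext x
    rw [Equiv.Perm.mem_support, Finset.mem_erase]
    constructor
    · intro hx
      refine ⟨fun hxe => hx (hxe ▸ hσ0), Finset.mem_univ _⟩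
    · rintro ⟨hx, -⟩ hfix
      apply hx
      apply huniq
      rw [pow_two, Equiv.Perm.mul_apply, hfix, hfix]
  have hsuppcard : σ.support.card = 8 * m + 4 := by
    rw [hsupp, Finset.card_erase_of_mem (Finset.mem_univ _), Finset.card_univ, hcard]
    omega
  -- every cycle has length four
  have hall : ∀ n ∈ σ.cycleType, n = 4 := by
    intro n hn
    have h2 := Equiv.Perm.two_le_of_mem_cycleType hn
    have hd : n ∣ 4 := dvd_trans (Equiv.Perm.dvd_of_mem_cycleType hn) (orderOf_dvd_of_pow_eq_one h4)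
    have hle : n ≤ 4 := Nat.le_of_dvd (by norm_num) hd
    have hn3 : n ≠ 3 := by
      rintro rfl
      norm_num at hd
    by_contra hne
    have hn2 : n = 2 := by omega
    subst hn2
    obtain ⟨c, τ, hστ, hdisj, hcyc, hcsupp⟩ := Equiv.Perm.mem_cycleType_iff.mp hn
    -- a point of the support of `c`
    have hcne : c.support.Nonempty := by
      rw [← Finset.card_pos, hcsupp]; norm_num
    obtain ⟨x, hx⟩ := hcne
    have hc2 : c ^ 2 = 1 := by
      rw [← hcsupp, ← hcyc.orderOf]; exact pow_orderOf_eq_one c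
    have hσ2 : σ ^ 2 = τ ^ 2 := by
      rw [hστ, hdisj.commute.mul_pow, hc2, one_mul]
    have hτfix : ∀ y, y ∈ c.support → τ y = y := by
      intro y hy
      rcases (Equiv.Perm.disjoint_iff_eq_or_eq.mp hdisj) y with h | h
      · exact absurd h (Equiv.Perm.mem_support.mp hy)
      · exact h
    have hfixx : ∀ y, y ∈ c.support → (σ ^ 2) y = y := by
      intro y hy
      rw [hσ2, pow_two, Equiv.Perm.mul_apply, hτfix y hy, hτfix y hy]
    have hx0 : x = ω₀ := huniq x (hfixx x hx)
    have hcx : c x ∈ c.support := Equiv.Perm.apply_mem_support.mpr hx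
    have hcx0 : c x = ω₀ := huniq (c x) (hfixx (c x) hcx)
    exact (Equiv.Perm.mem_support.mp hx) (by rw [hcx0, hx0])
  have hrep : σ.cycleType = Multiset.replicate (Multiset.card σ.cycleType) 4 :=
    Multiset.eq_replicate.mpr ⟨rfl, hall⟩
  have hsum : σ.cycleType.sum = 4 * Multiset.card σ.cycleType := by
    conv_lhs => rw [hrep]
    rw [Multiset.sum_replicate, smul_eq_mul, mul_comm]
  have hk : 4 * Multiset.card σ.cycleType = 8 * m + 4 := by
    rw [← hsum, Equiv.Perm.sum_cycleType, hsuppcard]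
  rw [Equiv.Perm.sign_of_cycleType, hsum]
  have hodd : Odd (4 * Multiset.card σ.cycleType + Multiset.card σ.cycleType) := by
    refine ⟨5 * m + 2, ?_⟩
    omega
  exact hodd.neg_one_pow

end Cfsg.Agent.Lib.Helper5.PG
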