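import Mathlib
import Cfsg.Agent.Lib.Helper9.SmallOrd7
import Cfsg.Agent.Lib.Lead.ThompsonTransfer
import Cfsg.Agent.Lib.Helper5.PG.PG6
import Cfsg.Agent.Lib.Helper5.PG.PG2

set_option autoImplicit false

/-!
# There is no simple group of order 3960
-/

namespace Cfsg.Agent.Lib.Helper5.PG

open Subgroup MulAction
open Cfsg.Agent.Lib.Helper9.SmallOrd

theorem dvd_360_mod_11 : ∀ n, n ∣ 360 → n % 11 = 1 → n = 1 ∨ n = 12 ∨ n = 45 := by
  intro n hn hmod
  have hle : n ≤ 360 := Nat.le_of_dvd (by norm_num) hn
  obtain ⟨k, hk⟩ : ∃ k, n = 11 * k + 1 := ⟨n / 11, by omega⟩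
  have hk6 : k ≤ 32 := by omega
  subst hk
  interval_cases k <;> omega

variable {G : Type*} [Group G] [Finite G] [IsSimpleGroup G]

/-- In a non-abelian simple group acting on `8m + 5` points, no element `a` with `a ^ 4 = 1` has
a square with exactly one fixed point. -/
theorem pow_four_false (hG : ¬ IsMulCommutative G) {Ω : Type*} [MulAction G Ω] [Finite Ω]
    (a : G) (ha : a ^ 4 = 1) (ω₀ : Ω) (h0 : (a ^ 2) • ω₀ = ω₀)
    (huniq : ∀ ω : Ω, (a ^ 2) • ω = ω → ω = ω₀) (m : ℕ) (hcard : Nat.card Ω = 8 * m + 5) :
    False := by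
  classical
  haveI : Fintype Ω := Fintype.ofFinite Ω
  set σ := MulAction.toPermHom G Ω a with hσ
  have hsign : Equiv.Perm.sign σ = 1 := sign_eq_one hG a
  have h4 : σ ^ 4 = 1 := by rw [hσ, ← map_pow, ha, map_one]
  have hpow : ∀ ω : Ω, (σ ^ 2) ω = (a ^ 2) • ω := by
    intro ω
    rw [hσ, ← map_pow]; rfl
  have key := sign_eq_neg_one_of_pow_four σ h4 ω₀ (by rw [hpow]; exact h0)
    (fun ω hω => huniq ω (by rw [← hpow]; exact hω)) m
    (by rw [← Nat.card_eq_fintype_card]; exact hcard)
  rw [hsign] at key
  exact absurd key (by decide)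

/-- Conjugating an element of `C_G(P)` by an element of `N_G(P)`. -/
theorem conj_mem_centralizer_of_mem_normalizer {H : Type*} [Group H] (P : Subgroup H) {g t : H}
    (hg : g ∈ normalizer (P : Set H)) (ht : t ∈ centralizer (P : Set H)) :
    g⁻¹ * t * g ∈ centralizer (P : Set H) := by
  rw [Subgroup.mem_centralizer_iff]
  intro x hx
  have hx' : g * x * g⁻¹ ∈ P := (Subgroup.mem_normalizer_iff.mp hg x).mp hx
  have hc := (Subgroup.mem_centralizer_iff.mp ht) (g * x * g⁻¹) hx'
  calc x * (g⁻¹ * t * g) = g⁻¹ * ((g * x * g⁻¹) * t) * g := by group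
    _ = g⁻¹ * (t * (g * x * g⁻¹)) * g := by rw [hc]
    _ = g⁻¹ * t * g * x := by group

theorem ne_3960 (hG : ¬ IsMulCommutative G) : Nat.card G ≠ 3960 := by
  intro hcard
  haveI : Fact (Nat.Prime 11) := ⟨by norm_num⟩
  haveI : Fact (Nat.Prime 2) := ⟨Nat.prime_two⟩
  obtain ⟨P⟩ : Nonempty (Sylow 11 G) := inferInstance
  obtain ⟨hPcard, hPbot, hPtop, hdvd, hmod, hne1, hNtop, hNcard, -⟩ :=
    sylow_data hG 1 360 Nat.one_pos (by norm_num) (by rw [hcard]; norm_num) (by norm_num) P
  rw [pow_one] at hPcard
  rw [hcard] at hNcard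
  set N := normalizer ((P : Subgroup G) : Set G) with hNdef
  set C := centralizer ((P : Subgroup G) : Set G) with hCdef
  obtain ⟨d, hd, hCN⟩ := exists_card_centralizer_mul (P : Subgroup G) hPcard
  have hd10 : d ∣ 10 := hd
  have hdle : d ≤ 10 := Nat.le_of_dvd (by norm_num) hd10
  rcases dvd_360_mod_11 _ hdvd hmod with hn | hn | hn
  · exact hne1 hn
  · -- twelve Sylow subgroups
    have hN330 : Nat.card N = 11 * 30 := by rw [hn] at hNcard; omega
    have := np_succ_dvd P hPcard hn hNtop 30 hN330
    norm_num at this
  · -- forty-five Sylow subgroups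
    have hN88 : Nat.card N = 88 := by rw [hn] at hNcard; omega
    rw [← hNdef, ← hCdef, hN88] at hCN
    have hCle : C ≤ N := Subgroup.centralizer_le_normalizer _
    -- |C| = 44
    have hC44 : Nat.card C = 44 := by
      have h11 : 11 ∣ Nat.card C := by
        rw [← hPcard]
        exact Subgroup.card_dvd_of_le (le_centralizer_of_card_prime (P : Subgroup G) hPcard)
      have hd12 : d = 1 ∨ d = 2 := by
        obtain ⟨c, hc⟩ := h11
        rw [hc] at hCN
        have : c * d = 8 := by nlinarith
        have hd8 : d ∣ 8 := ⟨c, by rw [← this, mul_comm]⟩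
        have : d ∣ Nat.gcd 8 10 := Nat.dvd_gcd hd8 hd10
        have h2 : d ∣ 2 := by simpa using this
        have := Nat.le_of_dvd (by norm_num) h2
        have hd0 : d ≠ 0 := by rintro rfl; simp at hd10
        omega
      rcases hd12 with rfl | rfl
      · exfalso
        have hCN' : C = N := by
          apply Subgroup.eq_of_le_of_card_ge hCle
          rw [hN88]; omega
        rcases Cfsg.Agent.Lib.Helper3.sylow_eq_bot_or_top_of_normalizer_le_centralizer P
          (by rw [← hNdef, ← hCdef, hCN']) with h | h
        · exact hPbot h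
        · exact hPtop h
      · omega
    have hrelCN : C.relIndex N = 2 := by
      have := card_mul_relIndex hCle
      rw [hC44, hN88] at this
      omega
    -- a Sylow 2-subgroup inside N
    obtain ⟨S', -⟩ : ∃ S' : Sylow 2 N, True := ⟨default, trivial⟩
    have hS'card : Nat.card S' = 2 ^ 3 :=
      Cfsg.Agent.Lib.Helper3.sylow_card_eq_of_card_eq S' 3 11 (by rw [hN88]; norm_num) (by norm_num)
    set S₀ : Subgroup G := (S' : Subgroup N).map N.subtype with hS₀
    have hS₀card : Nat.card S₀ = 8 := by rw [hS₀, Subgroup.card_subtype, hS'card]; norm_num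
    have hS₀N : S₀ ≤ N := Subgroup.map_subtype_le _
    have hS₀p : IsPGroup 2 S₀ := S'.2.map _
    obtain ⟨S, hS₀S⟩ := hS₀p.exists_le_sylow
    have hScard : Nat.card S = 2 ^ 3 :=
      Cfsg.Agent.Lib.Helper3.sylow_card_eq_of_card_eq S 3 495 (by rw [hcard]; norm_num) (by norm_num)
    have hSeq : S₀ = (S : Subgroup G) := by
      apply Subgroup.eq_of_le_of_card_ge hS₀S
      rw [hS₀card, hScard]; norm_num
    have hSN : (S : Subgroup G) ≤ N := hSeq ▸ hS₀N
    have hScard8 : Nat.card (S : Subgroup G) = 8 := by rw [hScard]; norm_num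
    -- the index of C ∩ S in S is two
    have hrelCS : C.relIndex (S : Subgroup G) = 2 := by
      have hle2 : C.relIndex (S : Subgroup G) ≤ 2 := by
        have := Subgroup.relIndex_le_of_le_right (H := C) hSN (by rw [hrelCN]; norm_num)
        rwa [hrelCN] at this
      have hne1' : C.relIndex (S : Subgroup G) ≠ 1 := by
        intro h1
        have hSC : (S : Subgroup G) ≤ C := Subgroup.relIndex_eq_one.mp h1
        have := Subgroup.card_dvd_of_le hSC
        rw [hScard8, hC44] at this
        norm_num at this
      have hne0 : C.relIndex (S : Subgroup G) ≠ 0 := by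
        intro h0
        have := Subgroup.relIndex_dvd_card C (S : Subgroup G)
        rw [h0, hScard8] at this
        norm_num at this
      omega
    have hNtop' : normalizer ((P : Subgroup G) : Set G) ≠ ⊤ := hNtop
    -- Fact A: a nontrivial involution of C fixes only P
    have factA : ∀ t : G, t ∈ C → t * t = 1 → t ≠ 1 → ∀ R : Sylow 11 G, t • R = R → R = P := by
      intro t htC htt ht1 R hR
      have hmod' := card_fixed_mod P t htC
      obtain ⟨k, hk⟩ := card_eq_fixed_add_four_mul hG (Ω := Sylow 11 G) t htt
      rw [hn] at hk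
      set f := Nat.card {S : Sylow 11 G // t • S = S} with hf
      have hf1 : f = 1 ∨ f = 45 := by omega
      rcases hf1 with hf1 | hf1
      · have hsub : Subsingleton {S : Sylow 11 G // t • S = S} :=
          (Nat.card_eq_one_iff_unique.mp hf1).1
        have htP : t • P = P :=
          Sylow.smul_eq_iff_mem_normalizer.mpr (Subgroup.centralizer_le_normalizer _ htC)
        have := hsub.elim ⟨R, hR⟩ ⟨P, htP⟩
        exact congrArg Subtype.val this
      · exfalso
        have hfix : ∀ Q : Sylow 11 G, t • Q = Q := by
          by_contra hcon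
          push Not at hcon
          obtain ⟨Q, hQ⟩ := hcon
          have hlt : Nat.card {S : Sylow 11 G // t • S = S} < Nat.card (Sylow 11 G) :=
            Finite.card_subtype_lt (p := fun S : Sylow 11 G => t • S = S) (x := Q) hQ
          omega
        exact ht1 (eq_one_of_fix_all P hNtop' t hfix)
    -- every involution of S lies in C
    have hinv : ∀ u : G, u ∈ (S : Subgroup G) → orderOf u = 2 → u ∈ C := by
      intro u huS huo
      by_cases hex : ∃ g : G, g * u * g⁻¹ ∈ C
      · obtain ⟨g, hg⟩ := hex
        set t := g * u * g⁻¹ with ht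
        have huu : u * u = 1 := by rw [← pow_two, ← huo]; exact pow_orderOf_eq_one u
        have htt : t * t = 1 := by
          rw [ht]
          calc g * u * g⁻¹ * (g * u * g⁻¹) = g * (u * u) * g⁻¹ := by group
            _ = 1 := by rw [huu]; group
        have hu1 : u ≠ 1 := by
          rintro rfl
          rw [orderOf_one] at huo
          omega
        have ht1 : t ≠ 1 := by
          intro h1
          apply hu1
          have : u = g⁻¹ * t * g := by rw [ht]; group
          rw [this, h1]; group
        have huP : u • P = P := Sylow.smul_eq_iff_mem_normalizer.mpr (hSN huS)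
        have htgP : t • (g • P) = g • P := by
          rw [ht, ← mul_smul]
          have : g * u * g⁻¹ * g = g * u := by group
          rw [this, mul_smul, huP]
        have hgP : g • P = P := factA t hg htt ht1 (g • P) htgP
        have hgN : g ∈ N := Sylow.smul_eq_iff_mem_normalizer.mp hgP
        have := conj_mem_centralizer_of_mem_normalizer (P : Subgroup G) hgN hg
        have hu' : g⁻¹ * t * g = u := by rw [ht]; group
        rwa [hu'] at this
      · exfalso
        push Not at hex
        obtain ⟨M, hMn, hMi, -⟩ := Cfsg.Agent.Lib.Lead.thompson_transfer S C hrelCS u huo hex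
        apply normal_absurd M hMn
        · rintro rfl
          rw [Subgroup.index_bot, hcard] at hMi
          norm_num at hMi
        · rintro rfl
          rw [Subgroup.index_top] at hMi
          norm_num at hMi
    -- no element of S has order four
    have hno4 : ∀ a : G, a ∈ (S : Subgroup G) → a ^ 4 = 1 → a ^ 2 = 1 := by
      intro a haS ha4
      by_contra ha2
      have ho : orderOf (a ^ 2) = 2 := by
        apply orderOf_eq_prime
        · rw [← pow_mul]; exact ha4
        · exact ha2
      have ha2S : a ^ 2 ∈ (S : Subgroup G) := (S : Subgroup G).pow_mem haS 2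
      have ha2C : a ^ 2 ∈ C := hinv _ ha2S ho
      have htt : a ^ 2 * a ^ 2 = 1 := by rw [← pow_add]; exact ha4
      have h0 : (a ^ 2) • P = P :=
        Sylow.smul_eq_iff_mem_normalizer.mpr (hSN ha2S)
      exact pow_four_false hG a ha4 P h0 (fun R hR => factA _ ha2C htt ha2 R hR) 5
        (by rw [hn])
    -- hence S has exponent two and lies in C
    have hSC : (S : Subgroup G) ≤ C := by
      intro s hs
      have hs8 : s ^ 8 = 1 := by
        have h1 : (⟨s, hs⟩ : (S : Subgroup G)) ^ Nat.card (S : Subgroup G) = 1 := pow_card_eq_one'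
        rw [hScard8] at h1
        have := congrArg Subtype.val h1
        simpa using this
      have hs2 : s ^ 2 = 1 := by
        by_cases hs4 : s ^ 4 = 1
        · exact hno4 s hs hs4
        · exfalso
          apply hs4
          have h1 : (s ^ 2) ^ 4 = 1 := by rw [← pow_mul]; exact hs8
          have h2 := hno4 (s ^ 2) ((S : Subgroup G).pow_mem hs 2) h1
          rw [← pow_mul] at h2
          exact h2
      by_cases hs1 : s = 1
      · rw [hs1]; exact C.one_mem
      · exact hinv s hs (orderOf_eq_prime hs2 hs1)
    have := Subgroup.relIndex_eq_one.mpr hSC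
    omega

end Cfsg.Agent.Lib.Helper5.PG
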