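import Mathlib
import Cfsg.Agent.Lib.Helper5.PG.PG2

set_option autoImplicit false

/-!
# Prime graph toolkit, part 3: normal Hall subgroups of normal subgroups, Burnside's normal
complement inside a normal subgroup
-/

namespace Cfsg.Agent.Lib.Helper5.PG

open Subgroup

variable {G : Type*} [Group G] [Finite G]

omit [Finite G] in
theorem orderOf_conj_eq (g x : G) : orderOf (g * x * g⁻¹) = orderOf x := by
  have := MulEquiv.orderOf_eq (MulAut.conj g) x
  rwa [MulAut.conj_apply] at this

/-- A normal Hall subgroup of a normal subgroup is normal in the whole group. -/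
theorem normal_map_of_coprime (N : Subgroup G) [N.Normal] (K : Subgroup N) [K.Normal]
    (hcop : Nat.Coprime (Nat.card K) K.index) : (K.map N.subtype).Normal := by
  refine ⟨fun x hx g => ?_⟩
  obtain ⟨n, hnK, rfl⟩ := Subgroup.mem_map.mp hx
  have hN : g * (n : G) * g⁻¹ ∈ N := ‹N.Normal›.conj_mem _ n.2 g
  set y : N := ⟨g * (n : G) * g⁻¹, hN⟩ with hy
  refine Subgroup.mem_map.mpr ⟨y, ?_, rfl⟩
  -- the order of `y` divides `|K|`
  have ho : orderOf y ∣ Nat.card K := by
    have h1 : orderOf (⟨n, hnK⟩ : K) ∣ Nat.card K := orderOf_dvd_natCard _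
    have h2 : orderOf (⟨n, hnK⟩ : K) = orderOf (n : G) := by
      rw [← Subgroup.orderOf_coe (⟨n, hnK⟩ : K), ← Subgroup.orderOf_coe n]
    have h3 : orderOf y = orderOf (g * (n : G) * g⁻¹) := by
      rw [← Subgroup.orderOf_coe y]
    rw [h3, orderOf_conj_eq]
    rw [← h2]; exact h1
  have hq1 : (QuotientGroup.mk y : N ⧸ K) ^ orderOf y = 1 := by
    rw [← QuotientGroup.mk_pow, pow_orderOf_eq_one]; rfl
  have hq2 : (QuotientGroup.mk y : N ⧸ K) ^ K.index = 1 := by
    rw [Subgroup.index_eq_card]; exact pow_card_eq_one'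
  have hq3 : orderOf (QuotientGroup.mk y : N ⧸ K) ∣ Nat.gcd (Nat.card K) K.index :=
    Nat.dvd_gcd (dvd_trans (orderOf_dvd_of_pow_eq_one hq1) ho) (orderOf_dvd_of_pow_eq_one hq2)
  rw [hcop.gcd_eq_one, Nat.dvd_one, orderOf_eq_one_iff] at hq3
  exact (QuotientGroup.eq_one_iff y).mp hq3

/-- Burnside's normal `p`-complement theorem for the whole group, in numerical form. -/
theorem exists_normal_complement {p : ℕ} [hp : Fact p.Prime] (P : Sylow p G)
    (h : normalizer ((P : Subgroup G) : Set G) ≤ centralizer ((P : Subgroup G) : Set G)) :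
    ∃ K : Subgroup G, K.Normal ∧ Nat.card K * Nat.card P = Nat.card G := by
  have hc := MonoidHom.ker_transferSylow_isComplement' P h
  exact ⟨_, MonoidHom.normal_ker _, hc.card_mul_card⟩

/-- Burnside's normal `p`-complement theorem inside a normal subgroup `N`: if a Sylow
`p`-subgroup `P₀` of `N` is central in its normalizer in `N`, then `N` has a normal
`p`-complement, which is normal in `G`. -/
theorem exists_normal_complement_sub {p : ℕ} [hp : Fact p.Prime] (N : Subgroup G) [N.Normal]
    (P₀ : Subgroup G) (hPN : P₀ ≤ N)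
    (hcard : Nat.card P₀ = p ^ (Nat.card N).factorization p)
    (h : ∀ g ∈ N, g ∈ normalizer (P₀ : Set G) → g ∈ centralizer (P₀ : Set G)) :
    ∃ K : Subgroup G, K.Normal ∧ K ≤ N ∧ Nat.card K * Nat.card P₀ = Nat.card N := by
  have hc0 : Nat.card (P₀.subgroupOf N) = Nat.card P₀ :=
    Nat.card_congr (Subgroup.subgroupOfEquivOfLe hPN).toEquiv
  let P : Sylow p N := Sylow.ofCard (P₀.subgroupOf N) (by rw [hc0, hcard])
  have hPcoe : (P : Subgroup N) = P₀.subgroupOf N := rfl
  have hP : normalizer ((P : Subgroup N) : Set N) ≤ centralizer ((P : Subgroup N) : Set N) := by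
    intro g hg
    rw [hPcoe] at hg ⊢
    have hgn : (g : G) ∈ normalizer (P₀ : Set G) := by
      rw [Subgroup.mem_normalizer_iff]
      intro x
      constructor
      · intro hx
        have h1 := (Subgroup.mem_normalizer_iff.mp hg ⟨x, hPN hx⟩).mp
          (by rw [Subgroup.mem_subgroupOf]; exact hx)
        rw [Subgroup.mem_subgroupOf] at h1
        exact h1
      · intro hx
        have hxN : x ∈ N := by
          have h1 : (g : G)⁻¹ * ((g : G) * x * (g : G)⁻¹) * (g : G) ∈ N :=
            N.mul_mem (N.mul_mem (N.inv_mem g.2) (hPN hx)) g.2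
          have h2 : (g : G)⁻¹ * ((g : G) * x * (g : G)⁻¹) * (g : G) = x := by group
          rwa [h2] at h1
        have h1 := (Subgroup.mem_normalizer_iff.mp hg ⟨x, hxN⟩).mpr
          (by rw [Subgroup.mem_subgroupOf]; exact hx)
        rw [Subgroup.mem_subgroupOf] at h1
        exact h1
    have hgc := h g g.2 hgn
    rw [Subgroup.mem_centralizer_iff]
    intro x hx
    have hx' : (x : G) ∈ P₀ := Subgroup.mem_subgroupOf.mp hx
    have := (Subgroup.mem_centralizer_iff.mp hgc) x hx'
    exact Subtype.ext this
  have hc := MonoidHom.ker_transferSylow_isComplement' P hP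
  set K : Subgroup N := (MonoidHom.transferSylow P hP).ker with hK
  haveI : K.Normal := MonoidHom.normal_ker _
  have hmul : Nat.card K * Nat.card P₀ = Nat.card N := by
    have := hc.card_mul_card
    rw [← hc0]
    exact this
  have hcop : Nat.Coprime (Nat.card K) K.index := by
    have h1 : Nat.card K * K.index = Nat.card N := K.card_mul_index
    have hKpos : 0 < Nat.card K := Nat.card_pos
    have h2 : K.index = Nat.card P₀ := by
      have : Nat.card K * K.index = Nat.card K * Nat.card P₀ := by rw [h1, hmul]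
      exact Nat.eq_of_mul_eq_mul_left hKpos this
    rw [h2, hcard]
    apply Nat.Coprime.pow_right
    rw [Nat.coprime_comm, Nat.Prime.coprime_iff_not_dvd hp.out]
    intro hdvd
    -- then p ^ (k+1) divides |N|
    have hNpos : Nat.card N ≠ 0 := Nat.card_pos.ne'
    have h3 : p ^ ((Nat.card N).factorization p + 1) ∣ Nat.card N := by
      obtain ⟨c, hc'⟩ := hdvd
      refine ⟨c, ?_⟩
      have h5 : Nat.card N = (p * c) * p ^ (Nat.card N).factorization p := by
        rw [← hc', ← hcard]; exact hmul.symm
      rw [pow_succ]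
      calc Nat.card N = (p * c) * p ^ (Nat.card N).factorization p := h5
        _ = p ^ (Nat.card N).factorization p * p * c := by ring
    have h4 := (hp.out.pow_dvd_iff_le_factorization hNpos).mp h3
    omega
  refine ⟨K.map N.subtype, normal_map_of_coprime N K hcop, Subgroup.map_subtype_le _, ?_⟩
  rw [Subgroup.card_subtype]
  exact hmul

end Cfsg.Agent.Lib.Helper5.PG
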