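import Mathlib
import Cfsg.Agent.Lib.Helper5.PG.PG3
import Cfsg.Agent.Lib.Helper3.SylowCount

set_option autoImplicit false

/-!
# Prime graph toolkit, part 4: arithmetic of groups of order 7920
-/

namespace Cfsg.Agent.Lib.Helper5.PG

open Subgroup

theorem prime_dvd_7920 {r : ℕ} (hr : r.Prime) (h : r ∣ 7920) : r = 2 ∨ r = 3 ∨ r = 5 ∨ r = 11 := by
  have h1 : r ∣ 2 ^ 4 * 3 ^ 2 * 5 * 11 := by norm_num; exact h
  rcases (Nat.Prime.dvd_mul hr).mp h1 with h2 | h2
  · rcases (Nat.Prime.dvd_mul hr).mp h2 with h3 | h3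
    · rcases (Nat.Prime.dvd_mul hr).mp h3 with h4 | h4
      · left; exact (Nat.prime_dvd_prime_iff_eq hr Nat.prime_two).mp (hr.dvd_of_dvd_pow h4)
      · right; left; exact (Nat.prime_dvd_prime_iff_eq hr Nat.prime_three).mp (hr.dvd_of_dvd_pow h4)
    · right; right; left; exact (Nat.prime_dvd_prime_iff_eq hr Nat.prime_five).mp h3
  · right; right; right; exact (Nat.prime_dvd_prime_iff_eq hr (by norm_num)).mp h2

theorem dvd_720_mod_11 : ∀ n, n ∣ 720 → n % 11 = 1 → n = 1 ∨ n = 12 ∨ n = 45 ∨ n = 144 := by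
  intro n hn hmod
  have hle : n ≤ 720 := Nat.le_of_dvd (by norm_num) hn
  obtain ⟨k, hk⟩ : ∃ k, n = 11 * k + 1 := ⟨n / 11, by omega⟩
  have hk6 : k ≤ 65 := by omega
  subst hk
  interval_cases k <;> omega

theorem dvd_1584_mod_5 : ∀ n, n ∣ 1584 → n % 5 = 1 →
    n = 1 ∨ n = 6 ∨ n = 11 ∨ n = 16 ∨ n = 36 ∨ n = 66 ∨ n = 176 ∨ n = 396 := by
  intro n hn hmod
  have hle : n ≤ 1584 := Nat.le_of_dvd (by norm_num) hn
  obtain ⟨k, hk⟩ : ∃ k, n = 5 * k + 1 := ⟨n / 5, by omega⟩
  have hk6 : k ≤ 316 := by omega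
  subst hk
  interval_cases k <;> omega

variable {G : Type*} [Group G] [Finite G]

theorem factorization_eq_one_of_card {p m : ℕ} (hp : p.Prime) (hG : Nat.card G = p * m)
    (hm : ¬ p ∣ m) : (Nat.card G).factorization p = 1 := by
  have hm0 : m ≠ 0 := fun h => hm (h ▸ dvd_zero p)
  rw [hG, Nat.factorization_mul hp.ne_zero hm0, Finsupp.add_apply, hp.factorization_self,
    Nat.factorization_eq_zero_of_not_dvd hm]

/-- A subgroup of order `p` is a Sylow subgroup when `p` exactly divides the order. -/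
theorem exists_sylow_eq {p m : ℕ} [hp : Fact p.Prime] (hG : Nat.card G = p * m) (hm : ¬ p ∣ m)
    (P : Subgroup G) (hP : Nat.card P = p) : ∃ S : Sylow p G, (S : Subgroup G) = P :=
  ⟨Sylow.ofCard P (by rw [factorization_eq_one_of_card hp.out hG hm, pow_one, hP]), rfl⟩

/-- Possible orders of the normalizer of a subgroup of order 11. -/
theorem card_normalizer_11 (hG : Nat.card G = 7920) (P : Subgroup G) (hP : Nat.card P = 11) :
    Nat.card (normalizer (P : Set G)) = 7920 ∨ Nat.card (normalizer (P : Set G)) = 660 ∨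
      Nat.card (normalizer (P : Set G)) = 176 ∨ Nat.card (normalizer (P : Set G)) = 55 := by
  haveI : Fact (Nat.Prime 11) := ⟨by norm_num⟩
  obtain ⟨S, hS⟩ := exists_sylow_eq (p := 11) (m := 720) (by rw [hG]) (by norm_num) P hP
  have h1 := card_normalizer_mul_card_sylow S
  rw [hS, hG] at h1
  have h2 : Nat.card (Sylow 11 G) ∣ (S : Subgroup G).index := S.card_dvd_index
  have h3 : P.index = 720 := by
    have := P.card_mul_index
    rw [hP, hG] at this
    omega
  rw [hS, h3] at h2
  have h4 : Nat.card (Sylow 11 G) % 11 = 1 := card_sylow_modEq_one 11 G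
  rcases dvd_720_mod_11 _ h2 h4 with h | h | h | h <;> rw [h] at h1 <;> omega

/-- Possible orders of the normalizer of a subgroup of order 5. -/
theorem card_normalizer_5 (hG : Nat.card G = 7920) (Q : Subgroup G) (hQ : Nat.card Q = 5) :
    Nat.card (normalizer (Q : Set G)) = 7920 ∨ Nat.card (normalizer (Q : Set G)) = 1320 ∨
      Nat.card (normalizer (Q : Set G)) = 720 ∨ Nat.card (normalizer (Q : Set G)) = 495 ∨
      Nat.card (normalizer (Q : Set G)) = 220 ∨ Nat.card (normalizer (Q : Set G)) = 120 ∨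
      Nat.card (normalizer (Q : Set G)) = 45 ∨ Nat.card (normalizer (Q : Set G)) = 20 := by
  haveI : Fact (Nat.Prime 5) := ⟨by norm_num⟩
  obtain ⟨S, hS⟩ := exists_sylow_eq (p := 5) (m := 1584) (by rw [hG]) (by norm_num) Q hQ
  have h1 := card_normalizer_mul_card_sylow S
  rw [hS, hG] at h1
  have h2 : Nat.card (Sylow 5 G) ∣ (S : Subgroup G).index := S.card_dvd_index
  have h3 : Q.index = 1584 := by
    have := Q.card_mul_index
    rw [hQ, hG] at this
    omega
  rw [hS, h3] at h2
  have h4 : Nat.card (Sylow 5 G) % 5 = 1 := card_sylow_modEq_one 5 G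
  rcases dvd_1584_mod_5 _ h2 h4 with h | h | h | h | h | h | h | h <;> rw [h] at h1 <;> omega

/-- Subgroups of order 11 and 5 exist. -/
theorem exists_subgroup_card_prime {p : ℕ} [hp : Fact p.Prime] (h : p ∣ Nat.card G) :
    ∃ P : Subgroup G, Nat.card P = p := by
  obtain ⟨x, hx⟩ := exists_prime_orderOf_dvd_card' p h
  exact ⟨zpowers x, by rw [Nat.card_zpowers, hx]⟩

/-- The `r`-part of the order of a subgroup of a group of order 7920. -/
theorem rpart_cases (hG : Nat.card G = 7920) (N : Subgroup G) {r : ℕ} (hr : r.Prime)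
    (hrN : r ∣ Nat.card N) :
    (r = 2 ∧ ((Nat.card N).factorization r = 1 ∨ (Nat.card N).factorization r = 2 ∨
        (Nat.card N).factorization r = 3 ∨ (Nat.card N).factorization r = 4)) ∨
    (r = 3 ∧ ((Nat.card N).factorization r = 1 ∨ (Nat.card N).factorization r = 2)) ∨
    (r = 5 ∧ (Nat.card N).factorization r = 1) ∨ (r = 11 ∧ (Nat.card N).factorization r = 1) := by
  have hN : Nat.card N ∣ 7920 := by rw [← hG]; exact Subgroup.card_subgroup_dvd_card N
  have hNpos : Nat.card N ≠ 0 := Nat.card_pos.ne'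
  have ha1 : 1 ≤ (Nat.card N).factorization r :=
    (hr.dvd_iff_one_le_factorization hNpos).mp hrN
  have hpow : r ^ (Nat.card N).factorization r ∣ 7920 :=
    dvd_trans (Nat.ordProj_dvd _ _) hN
  set a := (Nat.card N).factorization r with ha
  rcases prime_dvd_7920 hr (dvd_trans hrN hN) with rfl | rfl | rfl | rfl
  · left
    refine ⟨rfl, ?_⟩
    have : a ≤ 4 := by
      by_contra hcon
      have h5 : 2 ^ 5 ∣ 7920 := dvd_trans (pow_dvd_pow 2 (by omega)) hpow
      norm_num at h5
    omega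
  · right; left
    refine ⟨rfl, ?_⟩
    have : a ≤ 2 := by
      by_contra hcon
      have h5 : 3 ^ 3 ∣ 7920 := dvd_trans (pow_dvd_pow 3 (by omega)) hpow
      norm_num at h5
    omega
  · right; right; left
    refine ⟨rfl, ?_⟩
    have : a ≤ 1 := by
      by_contra hcon
      have h5 : 5 ^ 2 ∣ 7920 := dvd_trans (pow_dvd_pow 5 (by omega)) hpow
      norm_num at h5
    omega
  · right; right; right
    refine ⟨rfl, ?_⟩
    have : a ≤ 1 := by
      by_contra hcon
      have h5 : 11 ^ 2 ∣ 7920 := dvd_trans (pow_dvd_pow 11 (by omega)) hpow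
      norm_num at h5
    omega

end Cfsg.Agent.Lib.Helper5.PG
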