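import Mathlib
import Cfsg.Agent.Lib.Helper5.PG.PG4

set_option autoImplicit false

/-!
# Groups of order 7920 in which 11 is an isolated vertex of the prime graph are simple
-/

namespace Cfsg.Agent.Lib.Helper5.PG

open Subgroup

theorem strip_prime {p n m : ℕ} (hp : p.Prime) (h : n ∣ p * m) (hn : ¬ p ∣ n) : n ∣ m := by
  have hc : Nat.Coprime n p := (Nat.coprime_comm.mp ((Nat.Prime.coprime_iff_not_dvd hp).mpr hn))
  exact hc.dvd_of_dvd_mul_left h

/-- A divisor of 7920 prime to 2, 3, 5 divides 11. -/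
theorem dvd_11_of_dvd_7920 {n : ℕ} (h : n ∣ 7920) (h2 : ¬ 2 ∣ n) (h3 : ¬ 3 ∣ n) (h5 : ¬ 5 ∣ n) :
    n ∣ 11 := by
  have e : (7920 : ℕ) = 2 * (2 * (2 * (2 * (3 * (3 * (5 * 11)))))) := by norm_num
  rw [e] at h
  have p2 := Nat.prime_two
  have p3 := Nat.prime_three
  have p5 := Nat.prime_five
  exact strip_prime p5 (strip_prime p3 (strip_prime p3 (strip_prime p2 (strip_prime p2
    (strip_prime p2 (strip_prime p2 h h2) h2) h2) h2) h3) h3) h5

variable {G : Type*} [Group G] [Finite G]

/-- The three hypotheses: `11` is isolated in the prime graph. -/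
structure Iso11 (G : Type*) [Group G] : Prop where
  h2 : NoOrd G (11 * 2)
  h3 : NoOrd G (11 * 3)
  h5 : NoOrd G (11 * 5)

theorem Iso11.card_centralizer (h : Iso11 G) (hG : Nat.card G = 7920) (P : Subgroup G)
    (hP : Nat.card P = 11) : Nat.card (centralizer (P : Set G)) = 11 := by
  haveI : Fact (Nat.Prime 11) := ⟨by norm_num⟩
  haveI : Fact (Nat.Prime 2) := ⟨Nat.prime_two⟩
  haveI : Fact (Nat.Prime 3) := ⟨Nat.prime_three⟩
  haveI : Fact (Nat.Prime 5) := ⟨Nat.prime_five⟩
  have hd : Nat.card (centralizer (P : Set G)) ∣ 7920 := by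
    rw [← hG]; exact Subgroup.card_subgroup_dvd_card _
  have h11 := dvd_11_of_dvd_7920 hd (h.h2.not_dvd_card_centralizer (by norm_num) P hP)
    (h.h3.not_dvd_card_centralizer (by norm_num) P hP)
    (h.h5.not_dvd_card_centralizer (by norm_num) P hP)
  have hle : 11 ∣ Nat.card (centralizer (P : Set G)) := by
    rw [← hP]; exact Subgroup.card_dvd_of_le (le_centralizer_of_card_prime P hP)
  exact Nat.dvd_antisymm h11 hle

theorem Iso11.card_normalizer (h : Iso11 G) (hG : Nat.card G = 7920) (P : Subgroup G)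
    (hP : Nat.card P = 11) : Nat.card (normalizer (P : Set G)) = 55 := by
  haveI : Fact (Nat.Prime 11) := ⟨by norm_num⟩
  obtain ⟨d, hd, hmul⟩ := exists_card_centralizer_mul P hP
  rw [h.card_centralizer hG P hP] at hmul
  have hd10 : d ∣ 10 := hd
  have hdle : d ≤ 10 := Nat.le_of_dvd (by norm_num) hd10
  rcases card_normalizer_11 hG P hP with h1 | h1 | h1 | h1 <;> rw [h1] at hmul
  · omega
  · omega
  · omega
  · exact h1

/-- A nontrivial normal subgroup has order divisible by 11. -/
theorem Iso11.dvd_card_normal (h : Iso11 G) (hG : Nat.card G = 7920) (N : Subgroup G)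
    [N.Normal] (hN : N ≠ ⊥) : 11 ∣ Nat.card N := by
  haveI : Fact (Nat.Prime 11) := ⟨by norm_num⟩
  by_contra h11
  have hN1 : Nat.card N ≠ 1 := fun hc => hN (Subgroup.card_eq_one.mp hc)
  obtain ⟨r, hr, hrN⟩ := Nat.exists_prime_and_dvd hN1
  haveI : Fact r.Prime := ⟨hr⟩
  have hidx : 11 ∣ N.index := by
    have h1 := N.card_mul_index
    rw [hG] at h1
    have h2 : (11 : ℕ) ∣ Nat.card N * N.index := by rw [h1]; norm_num
    rcases (Nat.Prime.dvd_mul (by norm_num)).mp h2 with h3 | h3
    · exact absurd h3 h11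
    · exact h3
  rcases rpart_cases hG N hr hrN with ⟨rfl, ha⟩ | ⟨rfl, ha⟩ | ⟨rfl, ha⟩ | ⟨rfl, ha⟩
  · have key := h.h2.symm.rpart_modEq_one (by norm_num) N hidx
    rcases ha with ha | ha | ha | ha <;> rw [ha] at key <;> exact absurd key (by decide)
  · have key := h.h3.symm.rpart_modEq_one (by norm_num) N hidx
    rcases ha with ha | ha <;> rw [ha] at key <;> exact absurd key (by decide)
  · have key := h.h5.symm.rpart_modEq_one (by norm_num) N hidx
    rw [ha] at key
    exact absurd key (by decide)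
  · exact h11 hrN

/-- If 11 is isolated in the prime graph of a group of order 7920, the group is simple. -/
theorem Iso11.isSimpleGroup (h : Iso11 G) (hG : Nat.card G = 7920) : IsSimpleGroup G := by
  haveI : Fact (Nat.Prime 11) := ⟨by norm_num⟩
  haveI : Nontrivial G := by
    rw [← Finite.one_lt_card_iff_nontrivial, hG]; norm_num
  refine ⟨fun N hN => ?_⟩
  haveI := hN
  by_contra hcon
  push Not at hcon
  obtain ⟨hbot, htop⟩ := hcon
  have h11 := h.dvd_card_normal hG N hbot
  obtain ⟨R, hRN, -, hRcard, hmul⟩ := exists_sylow_sub' N 11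
  have hfact : (Nat.card N).factorization 11 = 1 := by
    rcases rpart_cases hG N (by norm_num) h11 with ⟨h1, -⟩ | ⟨h1, -⟩ | ⟨h1, -⟩ | ⟨-, h1⟩
    · omega
    · omega
    · omega
    · exact h1
  rw [hfact, pow_one] at hRcard
  rw [h.card_normalizer hG R hRcard] at hmul
  -- the index of N is 5
  have hidx : N.index = 5 := by
    have h1 := N.card_mul_index
    rw [hG] at h1
    have h2 : N.index ∣ 55 := ⟨_, by rw [← hmul, mul_comm]⟩
    have h3 : N.index ≠ 1 := fun hc => htop (Subgroup.index_eq_one.mp hc)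
    have h4 : N.index ≤ 55 := Nat.le_of_dvd (by norm_num) h2
    obtain ⟨c, hc⟩ := h11
    rw [hc] at h1
    have h5 : c * N.index = 720 := by nlinarith
    have h6 : ¬ 11 ∣ N.index := by
      intro ⟨e, he⟩
      have h7 : (11 : ℕ) ∣ 720 := ⟨c * e, by rw [← h5, he]; ring⟩
      norm_num at h7
    have : N.index = 1 ∨ N.index = 5 ∨ N.index = 11 ∨ N.index = 55 := by
      have hmem : N.index ∈ Nat.divisors 55 := Nat.mem_divisors.mpr ⟨h2, by norm_num⟩
      have hdiv : Nat.divisors 55 = {1, 5, 11, 55} := by decide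
      rw [hdiv] at hmem
      simpa using hmem
    rcases this with h7 | h7 | h7 | h7
    · exact absurd h7 h3
    · exact h7
    · exact absurd ⟨1, by rw [h7]⟩ h6
    · exact absurd ⟨5, by rw [h7]⟩ h6
  rw [hidx] at hmul
  have hD : Nat.card (N ⊓ normalizer (R : Set G) : Subgroup G) = 11 := by omega
  have hNcard : Nat.card N = 1584 := by
    have h1 := N.card_mul_index
    rw [hG, hidx] at h1
    omega
  -- N ∩ N_G(R) = R
  have hRD : R ≤ N ⊓ normalizer (R : Set G) := le_inf hRN Subgroup.le_normalizer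
  have hDR : (N ⊓ normalizer (R : Set G) : Subgroup G) = R := by
    symm
    apply Subgroup.eq_of_le_of_card_ge hRD
    rw [hD, hRcard]
  obtain ⟨K, hKn, hKN, hKcard⟩ := exists_normal_complement_sub (p := 11) N R hRN
    (by rw [hfact, pow_one, hRcard]) (by
      intro g hgN hgn
      have hgR : g ∈ R := by rw [← hDR]; exact ⟨hgN, hgn⟩
      exact le_centralizer_of_card_prime R hRcard hgR)
  rw [hRcard, hNcard] at hKcard
  have hK144 : Nat.card K = 144 := by omega
  haveI := hKn
  have hKbot : K ≠ ⊥ := by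
    intro hc
    rw [hc, Subgroup.card_bot] at hK144
    omega
  have := h.dvd_card_normal hG K hKbot
  rw [hK144] at this
  omega

end Cfsg.Agent.Lib.Helper5.PG
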