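import Mathlib
import Cfsg.Agent.Lib.Helper5.PG.PG5

set_option autoImplicit false

/-!
# Groups of order 7920 in which 5 is an isolated vertex of the prime graph, part 1:
nontrivial normal subgroups have order divisible by 5
-/

namespace Cfsg.Agent.Lib.Helper5.PG

open Subgroup

/-- A divisor of 7920 prime to 2, 3, 11 divides 5. -/
theorem dvd_5_of_dvd_7920 {n : ℕ} (h : n ∣ 7920) (h2 : ¬ 2 ∣ n) (h3 : ¬ 3 ∣ n) (h11 : ¬ 11 ∣ n) :
    n ∣ 5 := by
  have e : (7920 : ℕ) = 2 * (2 * (2 * (2 * (3 * (3 * (11 * 5)))))) := by norm_num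
  rw [e] at h
  have p2 := Nat.prime_two
  have p3 := Nat.prime_three
  have p11 : Nat.Prime 11 := by norm_num
  exact strip_prime p11 (strip_prime p3 (strip_prime p3 (strip_prime p2 (strip_prime p2
    (strip_prime p2 (strip_prime p2 h h2) h2) h2) h2) h3) h3) h11

/-- A divisor of 7920 prime to 3, 5, 11 divides 16. -/
theorem dvd_16_of_dvd_7920 {n : ℕ} (h : n ∣ 7920) (h3 : ¬ 3 ∣ n) (h5 : ¬ 5 ∣ n) (h11 : ¬ 11 ∣ n) :
    n ∣ 16 := by
  have e : (7920 : ℕ) = 3 * (3 * (5 * (11 * 16))) := by norm_num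
  rw [e] at h
  have p3 := Nat.prime_three
  have p5 := Nat.prime_five
  have p11 : Nat.Prime 11 := by norm_num
  exact strip_prime p11 (strip_prime p5 (strip_prime p3 (strip_prime p3 h h3) h3) h5) h11

variable {G : Type*} [Group G] [Finite G]

/-- The three hypotheses: `5` is isolated in the prime graph. -/
structure Iso5 (G : Type*) [Group G] : Prop where
  h2 : NoOrd G (5 * 2)
  h3 : NoOrd G (5 * 3)
  h11 : NoOrd G (5 * 11)

theorem Iso5.card_centralizer (h : Iso5 G) (hG : Nat.card G = 7920) (Q : Subgroup G)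
    (hQ : Nat.card Q = 5) : Nat.card (centralizer (Q : Set G)) = 5 := by
  haveI : Fact (Nat.Prime 11) := ⟨by norm_num⟩
  haveI : Fact (Nat.Prime 2) := ⟨Nat.prime_two⟩
  haveI : Fact (Nat.Prime 3) := ⟨Nat.prime_three⟩
  haveI : Fact (Nat.Prime 5) := ⟨Nat.prime_five⟩
  have hd : Nat.card (centralizer (Q : Set G)) ∣ 7920 := by
    rw [← hG]; exact Subgroup.card_subgroup_dvd_card _
  have h5 := dvd_5_of_dvd_7920 hd (h.h2.not_dvd_card_centralizer (by norm_num) Q hQ)
    (h.h3.not_dvd_card_centralizer (by norm_num) Q hQ)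
    (h.h11.not_dvd_card_centralizer (by norm_num) Q hQ)
  have hle : 5 ∣ Nat.card (centralizer (Q : Set G)) := by
    rw [← hQ]; exact Subgroup.card_dvd_of_le (le_centralizer_of_card_prime Q hQ)
  exact Nat.dvd_antisymm h5 hle

theorem Iso5.card_normalizer (h : Iso5 G) (hG : Nat.card G = 7920) (Q : Subgroup G)
    (hQ : Nat.card Q = 5) : Nat.card (normalizer (Q : Set G)) = 20 := by
  haveI : Fact (Nat.Prime 5) := ⟨Nat.prime_five⟩
  obtain ⟨d, hd, hmul⟩ := exists_card_centralizer_mul Q hQ
  rw [h.card_centralizer hG Q hQ] at hmul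
  have hd4 : d ∣ 4 := hd
  have hdle : d ≤ 4 := Nat.le_of_dvd (by norm_num) hd4
  rcases card_normalizer_5 hG Q hQ with h1 | h1 | h1 | h1 | h1 | h1 | h1 | h1 <;>
    rw [h1] at hmul <;> first | omega | exact h1

/-- If `5 ∣ |G : N|`, the order of the normal subgroup `N` is prime to 3. -/
theorem Iso5.not_three_dvd (h : Iso5 G) (hG : Nat.card G = 7920) (N : Subgroup G) [N.Normal]
    (h5 : 5 ∣ N.index) : ¬ 3 ∣ Nat.card N := by
  haveI : Fact (Nat.Prime 3) := ⟨Nat.prime_three⟩
  haveI : Fact (Nat.Prime 5) := ⟨Nat.prime_five⟩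
  intro h3
  have key := h.h3.symm.rpart_modEq_one (by norm_num) N h5
  rcases rpart_cases hG N Nat.prime_three h3 with ⟨h1, -⟩ | ⟨-, ha⟩ | ⟨h1, -⟩ | ⟨h1, -⟩
  · omega
  · rcases ha with ha | ha <;> rw [ha] at key <;> exact absurd key (by decide)
  · omega
  · omega

/-- If `5 ∣ |G : N|` and `|N|` is even then 16 divides `|N|`. -/
theorem Iso5.sixteen_dvd (h : Iso5 G) (hG : Nat.card G = 7920) (N : Subgroup G) [N.Normal]
    (h5 : 5 ∣ N.index) (h2 : 2 ∣ Nat.card N) : 16 ∣ Nat.card N := by
  haveI : Fact (Nat.Prime 2) := ⟨Nat.prime_two⟩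
  haveI : Fact (Nat.Prime 5) := ⟨Nat.prime_five⟩
  have key := h.h2.symm.rpart_modEq_one (by norm_num) N h5
  rcases rpart_cases hG N Nat.prime_two h2 with ⟨-, ha⟩ | ⟨h1, -⟩ | ⟨h1, -⟩ | ⟨h1, -⟩
  · rcases ha with ha | ha | ha | ha
    · rw [ha] at key; exact absurd key (by decide)
    · rw [ha] at key; exact absurd key (by decide)
    · rw [ha] at key; exact absurd key (by decide)
    · have := Nat.ordProj_dvd (Nat.card N) 2
      rw [ha] at this
      exact this
  · omega
  · omega
  · omega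

theorem five_dvd_index_of_not_dvd (hG : Nat.card G = 7920) (N : Subgroup G)
    (h5 : ¬ 5 ∣ Nat.card N) : 5 ∣ N.index := by
  have h1 := N.card_mul_index
  rw [hG] at h1
  have h2 : (5 : ℕ) ∣ Nat.card N * N.index := by rw [h1]; norm_num
  rcases (Nat.Prime.dvd_mul Nat.prime_five).mp h2 with h3 | h3
  · exact absurd h3 h5
  · exact h3

/-- A normal subgroup of order prime to 5 has order prime to 11. -/
theorem Iso5.not_eleven_dvd (h : Iso5 G) (hG : Nat.card G = 7920) (N : Subgroup G) [N.Normal]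
    (h5 : ¬ 5 ∣ Nat.card N) : ¬ 11 ∣ Nat.card N := by
  haveI : Fact (Nat.Prime 11) := ⟨by norm_num⟩
  haveI : Fact (Nat.Prime 5) := ⟨Nat.prime_five⟩
  intro h11
  have hidx5 := five_dvd_index_of_not_dvd hG N h5
  have h3 := h.not_three_dvd hG N hidx5
  obtain ⟨R, hRN, -, hRcard, hidx⟩ := exists_sylow_sub N 11
  have hfact : (Nat.card N).factorization 11 = 1 := by
    rcases rpart_cases hG N (by norm_num) h11 with ⟨h1, -⟩ | ⟨h1, -⟩ | ⟨h1, -⟩ | ⟨-, h1⟩
    · omega
    · omega
    · omega
    · exact h1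
  rw [hfact, pow_one] at hRcard
  -- 45 divides the index of N
  have h45 : 45 ∣ N.index := by
    have h1 := N.card_mul_index
    rw [hG] at h1
    have h9 : 9 ∣ N.index := by
      have hc : Nat.Coprime 9 (Nat.card N) := by
        have : Nat.Coprime 3 (Nat.card N) :=
          (Nat.Prime.coprime_iff_not_dvd Nat.prime_three).mpr h3
        have h9' : (9 : ℕ) = 3 ^ 2 := by norm_num
        rw [h9']
        exact Nat.Coprime.pow_left 2 this
      have : (9 : ℕ) ∣ Nat.card N * N.index := by rw [h1]; norm_num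
      exact hc.dvd_of_dvd_mul_left this
    exact Nat.Coprime.mul_dvd_of_dvd_of_dvd (by norm_num) h9 hidx5
  -- hence R is normal in G
  have hRnorm : Nat.card (normalizer (R : Set G)) = 7920 := by
    have h45' : 45 ∣ Nat.card (normalizer (R : Set G)) := dvd_trans h45 hidx
    rcases card_normalizer_11 hG R hRcard with h1 | h1 | h1 | h1
    · exact h1
    · rw [h1] at h45'; norm_num at h45'
    · rw [h1] at h45'; norm_num at h45'
    · rw [h1] at h45'; norm_num at h45'
  have hRtop : normalizer (R : Set G) = ⊤ := by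
    apply Subgroup.eq_top_of_card_eq
    rw [hRnorm, hG]
  haveI hRn : R.Normal := Subgroup.normalizer_eq_top_iff.mp hRtop
  -- the centralizer of R
  obtain ⟨d, hd, hmul⟩ := exists_card_centralizer_mul R hRcard
  rw [hRnorm] at hmul
  have hd10 : d ∣ 10 := hd
  have hC5 : ¬ 5 ∣ Nat.card (centralizer (R : Set G)) :=
    h.h11.symm.not_dvd_card_centralizer (by norm_num) R hRcard
  haveI : (centralizer (R : Set G)).Normal := Subgroup.normal_centralizer
  have hCidx := five_dvd_index_of_not_dvd hG (centralizer (R : Set G)) hC5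
  have hC3 := h.not_three_dvd hG (centralizer (R : Set G)) hCidx
  apply hC3
  -- 3 divides |C| since |C| * d = 7920 with d ∣ 10
  have hc : Nat.Coprime 3 d := by
    have : Nat.Coprime 3 10 := by norm_num
    exact Nat.Coprime.coprime_dvd_right hd10 this
  have : (3 : ℕ) ∣ Nat.card (centralizer (R : Set G)) * d := by rw [hmul]; norm_num
  exact hc.dvd_of_dvd_mul_right this

/-- A nontrivial normal subgroup has order divisible by 5. -/
theorem Iso5.dvd_card_normal (h : Iso5 G) (hG : Nat.card G = 7920) (N : Subgroup G)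
    [N.Normal] (hN : N ≠ ⊥) : 5 ∣ Nat.card N := by
  haveI : Fact (Nat.Prime 11) := ⟨by norm_num⟩
  haveI : Fact (Nat.Prime 5) := ⟨Nat.prime_five⟩
  haveI : Fact (Nat.Prime 2) := ⟨Nat.prime_two⟩
  by_contra h5
  have hidx5 := five_dvd_index_of_not_dvd hG N h5
  have h3 := h.not_three_dvd hG N hidx5
  have h11 := h.not_eleven_dvd hG N h5
  have hdvd : Nat.card N ∣ 7920 := by rw [← hG]; exact Subgroup.card_subgroup_dvd_card N
  have h16 : Nat.card N ∣ 16 := dvd_16_of_dvd_7920 hdvd h3 h5 h11
  have hN1 : Nat.card N ≠ 1 := fun hc => hN (Subgroup.card_eq_one.mp hc)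
  have h2 : 2 ∣ Nat.card N := by
    obtain ⟨r, hr, hrN⟩ := Nat.exists_prime_and_dvd hN1
    have : r ∣ 2 ^ 4 := dvd_trans hrN (by norm_num; exact h16)
    have hr2 : r = 2 := (Nat.prime_dvd_prime_iff_eq hr Nat.prime_two).mp (hr.dvd_of_dvd_pow this)
    rw [← hr2]; exact hrN
  have hcard16 : Nat.card N = 16 := Nat.dvd_antisymm h16 (h.sixteen_dvd hG N hidx5 h2)
  -- an element of order 11 centralizes N
  obtain ⟨x, hx⟩ := exists_prime_orderOf_dvd_card' (G := G) 11 (by rw [hG]; norm_num)
  have hx11 : x ^ 11 = 1 := by rw [← hx]; exact pow_orderOf_eq_one x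
  have hmod := card_modEq_card_inf_centralizer hx11 N
    (fun r hr => ‹N.Normal›.conj_mem r hr x)
  rw [hcard16] at hmod
  have hle : (N ⊓ centralizer ({x} : Set G) : Subgroup G) ≤ N := inf_le_left
  have hdvd' := Subgroup.card_dvd_of_le hle
  rw [hcard16] at hdvd'
  have hall : Nat.card (N ⊓ centralizer ({x} : Set G) : Subgroup G) = 16 := by
    have hmem : Nat.card (N ⊓ centralizer ({x} : Set G) : Subgroup G) ∈ Nat.divisors 16 :=
      Nat.mem_divisors.mpr ⟨hdvd', by norm_num⟩
    have hdiv : Nat.divisors 16 = {1, 2, 4, 8, 16} := by decide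
    rw [hdiv] at hmem
    simp only [Finset.mem_insert, Finset.mem_singleton] at hmem
    rcases hmem with h1 | h1 | h1 | h1 | h1 <;> rw [h1] at hmod
    · exact absurd hmod (by decide)
    · exact absurd hmod (by decide)
    · exact absurd hmod (by decide)
    · exact absurd hmod (by decide)
    · exact h1
  have hNle : N ≤ centralizer ({x} : Set G) := by
    have : (N ⊓ centralizer ({x} : Set G) : Subgroup G) = N := by
      apply Subgroup.eq_of_le_of_card_ge hle
      rw [hall, hcard16]
    rw [← this]; exact inf_le_right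
  -- so x lies in C_G(N), a normal subgroup of order prime to 5
  haveI : (centralizer (N : Set G)).Normal := Subgroup.normal_centralizer
  have hxC : x ∈ centralizer (N : Set G) := by
    rw [Subgroup.mem_centralizer_iff]
    intro n hn
    have := (Subgroup.mem_centralizer_iff.mp (hNle hn)) x (Set.mem_singleton x)
    exact this.symm
  have hC11 : 11 ∣ Nat.card (centralizer (N : Set G)) := by
    have := orderOf_dvd_natCard (⟨x, hxC⟩ : centralizer (N : Set G))
    rwa [← Subgroup.orderOf_coe, hx] at this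
  have hC5 : ¬ 5 ∣ Nat.card (centralizer (N : Set G)) := by
    -- an involution z of N
    obtain ⟨z, hzN, hz⟩ := exists_mem_orderOf_eq (s := 2) N h2
    have hZcard : Nat.card (zpowers z) = 2 := by rw [Nat.card_zpowers, hz]
    have h5Z := h.h2.symm.not_dvd_card_centralizer (by norm_num) (zpowers z) hZcard
    intro hcon
    apply h5Z
    refine dvd_trans hcon (Subgroup.card_dvd_of_le ?_)
    apply Subgroup.centralizer_le
    intro y hy
    obtain ⟨k, rfl⟩ := Subgroup.mem_zpowers_iff.mp hy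
    exact N.zpow_mem hzN k
  exact h.not_eleven_dvd hG _ hC5 hC11

end Cfsg.Agent.Lib.Helper5.PG
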