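import Mathlib
import Cfsg.Agent.Lib.Helper5.PG.PG8
import Cfsg.Agent.Lib.Helper5.PG.PG7

set_option autoImplicit false

/-!
# Groups of order 7920 in which 5 is an isolated vertex of the prime graph, part 2: simplicity
-/

namespace Cfsg.Agent.Lib.Helper5.PG

open Subgroup

variable {G : Type*} [Group G]

theorem NoOrd.subgroup {k : ℕ} (h : NoOrd G k) (N : Subgroup G) : NoOrd N k := by
  intro x
  rw [← Subgroup.orderOf_coe]
  exact h x

theorem mem_map_conj_iff (M : Subgroup G) (g x : G) :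
    x ∈ M.map (MulAut.conj g).toMonoidHom ↔ g⁻¹ * x * g ∈ M := by
  rw [Subgroup.mem_map_equiv]
  simp [MulAut.conj_symm_apply]

/-- If `N` is normal of index two, `M₀ ≤ N` is normalized by `N` and `g ∉ N`, then
`M₀ ⊓ M₀ ^ g` is normal in the whole group. -/
theorem normal_inf_conj (N : Subgroup G) [hNn : N.Normal] (hN2 : N.index = 2) (M₀ : Subgroup G)
    (hnorm : ∀ n ∈ N, ∀ x ∈ M₀, n * x * n⁻¹ ∈ M₀) (g : G) (hg : g ∉ N) :
    (M₀ ⊓ M₀.map (MulAut.conj g).toMonoidHom).Normal := by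
  have hg2 : g * g ∈ N := Subgroup.mul_self_mem_of_index_two hN2 g
  have hginv : g⁻¹ ∉ N := fun h => hg (by simpa using N.inv_mem h)
  -- conjugation by elements of N
  have hN : ∀ n ∈ N, ∀ x, x ∈ M₀ ⊓ M₀.map (MulAut.conj g).toMonoidHom →
      n * x * n⁻¹ ∈ M₀ ⊓ M₀.map (MulAut.conj g).toMonoidHom := by
    intro n hn x hx
    refine Subgroup.mem_inf.mpr ⟨hnorm n hn x hx.1, ?_⟩
    apply (mem_map_conj_iff M₀ g _).mpr
    have h1 : g⁻¹ * x * g ∈ M₀ := (mem_map_conj_iff M₀ g x).mp hx.2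
    have h2 : g⁻¹ * n * g ∈ N := by
      have := hNn.conj_mem n hn g⁻¹
      simpa using this
    have h3 := hnorm _ h2 _ h1
    have h4 : g⁻¹ * n * g * (g⁻¹ * x * g) * (g⁻¹ * n * g)⁻¹ = g⁻¹ * (n * x * n⁻¹) * g := by group
    rwa [h4] at h3
  -- conjugation by g
  have hgc : ∀ x, x ∈ M₀ ⊓ M₀.map (MulAut.conj g).toMonoidHom →
      g * x * g⁻¹ ∈ M₀ ⊓ M₀.map (MulAut.conj g).toMonoidHom := by
    intro x hx
    refine Subgroup.mem_inf.mpr ⟨?_, ?_⟩
    · have h1 : g⁻¹ * x * g ∈ M₀ := (mem_map_conj_iff M₀ g x).mp hx.2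
      have h3 := hnorm _ hg2 _ h1
      have h4 : g * g * (g⁻¹ * x * g) * (g * g)⁻¹ = g * x * g⁻¹ := by group
      rwa [h4] at h3
    · apply (mem_map_conj_iff M₀ g _).mpr
      have h4 : g⁻¹ * (g * x * g⁻¹) * g = x := by group
      rw [h4]; exact hx.1
  refine ⟨fun x hx h => ?_⟩
  by_cases hh : h ∈ N
  · exact hN h hh x hx
  · have h1 : h * g⁻¹ ∈ N := by
      rw [Subgroup.mul_mem_iff_of_index_two hN2]
      exact ⟨fun a => absurd a hh, fun a => absurd a hginv⟩
    have h2 := hN _ h1 _ (hgc x hx)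
    have h3 : h * g⁻¹ * (g * x * g⁻¹) * (h * g⁻¹)⁻¹ = h * x * h⁻¹ := by group
    rwa [h3] at h2

variable [Finite G]

/-- A proper nontrivial normal subgroup has index two. -/
theorem Iso5.index_normal (h : Iso5 G) (hG : Nat.card G = 7920) (N : Subgroup G)
    [N.Normal] (hbot : N ≠ ⊥) (htop : N ≠ ⊤) : N.index = 2 := by
  haveI : Fact (Nat.Prime 5) := ⟨Nat.prime_five⟩
  have h5 := h.dvd_card_normal hG N hbot
  obtain ⟨R, hRN, -, hRcard, hmul⟩ := exists_sylow_sub' N 5
  have hfact : (Nat.card N).factorization 5 = 1 := by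
    rcases rpart_cases hG N Nat.prime_five h5 with ⟨h1, -⟩ | ⟨h1, -⟩ | ⟨-, h1⟩ | ⟨h1, -⟩
    · omega
    · omega
    · exact h1
    · omega
  rw [hfact, pow_one] at hRcard
  rw [h.card_normalizer hG R hRcard] at hmul
  have h1 := N.card_mul_index
  rw [hG] at h1
  have h2 : N.index ∣ 20 := ⟨_, by rw [← hmul, mul_comm]⟩
  have h3 : N.index ≠ 1 := fun hc => htop (Subgroup.index_eq_one.mp hc)
  have h6 : ¬ 5 ∣ N.index := by
    intro ⟨e, he⟩
    obtain ⟨c, hc⟩ := h5
    rw [hc, he] at h1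
    have h7 : (25 : ℕ) ∣ 7920 := ⟨c * e, by rw [← h1]; ring⟩
    norm_num at h7
  have hcases : N.index = 2 ∨ N.index = 4 := by
    have hmem : N.index ∈ Nat.divisors 20 := Nat.mem_divisors.mpr ⟨h2, by norm_num⟩
    have hdiv : Nat.divisors 20 = {1, 2, 4, 5, 10, 20} := by decide
    rw [hdiv] at hmem
    simp only [Finset.mem_insert, Finset.mem_singleton] at hmem
    rcases hmem with h7 | h7 | h7 | h7 | h7 | h7
    · exact absurd h7 h3
    · left; exact h7
    · right; exact h7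
    · exact absurd ⟨1, by rw [h7]⟩ h6
    · exact absurd ⟨2, by rw [h7]⟩ h6
    · exact absurd ⟨4, by rw [h7]⟩ h6
  rcases hcases with h7 | h7
  · exact h7
  · exfalso
    rw [h7] at hmul h1
    have hD : Nat.card (N ⊓ normalizer (R : Set G) : Subgroup G) = 5 := by omega
    have hNcard : Nat.card N = 1980 := by omega
    have hRD : R ≤ N ⊓ normalizer (R : Set G) := le_inf hRN Subgroup.le_normalizer
    have hDR : (N ⊓ normalizer (R : Set G) : Subgroup G) = R := by
      symm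
      apply Subgroup.eq_of_le_of_card_ge hRD
      rw [hD, hRcard]
    obtain ⟨K, hKn, hKN, hKcard⟩ := exists_normal_complement_sub (p := 5) N R hRN
      (by rw [hfact, pow_one, hRcard]) (by
        intro g hgN hgn
        have hgR : g ∈ R := by rw [← hDR]; exact ⟨hgN, hgn⟩
        exact le_centralizer_of_card_prime R hRcard hgR)
    rw [hRcard, hNcard] at hKcard
    have hK396 : Nat.card K = 396 := by omega
    haveI := hKn
    have hKbot : K ≠ ⊥ := by
      intro hc
      rw [hc, Subgroup.card_bot] at hK396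
      omega
    have := h.dvd_card_normal hG K hKbot
    rw [hK396] at this
    omega

theorem sq_dvd_3960 : ∀ m : ℕ, m * m ∣ 3960 → m ∣ 6 := by
  intro m hm
  have hle : m * m ≤ 3960 := Nat.le_of_dvd (by norm_num) hm
  have hm63 : m < 63 := by nlinarith
  interval_cases m <;> omega

end Cfsg.Agent.Lib.Helper5.PG
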