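import Mathlib
import Cfsg.Agent.Lib.Helper5.PG.PG9

set_option autoImplicit false

/-!
# Groups of order 7920 in which 5 is an isolated vertex of the prime graph are simple
-/

namespace Cfsg.Agent.Lib.Helper5.PG

open Subgroup

variable {G : Type*} [Group G]

/-- If `N` normalizes `M₀` then it normalizes every conjugate of `M₀`. -/
theorem conj_normalized (N : Subgroup G) [hNn : N.Normal] (M₀ : Subgroup G)
    (hnorm : ∀ n ∈ N, ∀ x ∈ M₀, n * x * n⁻¹ ∈ M₀) (g : G) :
    ∀ n ∈ N, ∀ x ∈ M₀.map (MulAut.conj g).toMonoidHom,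
      n * x * n⁻¹ ∈ M₀.map (MulAut.conj g).toMonoidHom := by
  intro n hn x hx
  apply (mem_map_conj_iff M₀ g _).mpr
  have h1 : g⁻¹ * x * g ∈ M₀ := (mem_map_conj_iff M₀ g x).mp hx
  have h2 : g⁻¹ * n * g ∈ N := by
    have := hNn.conj_mem n hn g⁻¹
    simpa using this
  have h3 := hnorm _ h2 _ h1
  have h4 : g⁻¹ * n * g * (g⁻¹ * x * g) * (g⁻¹ * n * g)⁻¹ = g⁻¹ * (n * x * n⁻¹) * g := by group
  rwa [h4] at h3

theorem map_conj_le (N : Subgroup G) [hNn : N.Normal] (M₀ : Subgroup G) (hM : M₀ ≤ N) (g : G) :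
    M₀.map (MulAut.conj g).toMonoidHom ≤ N := by
  intro x hx
  have h1 : g⁻¹ * x * g ∈ M₀ := (mem_map_conj_iff M₀ g x).mp hx
  have h2 := hNn.conj_mem _ (hM h1) g
  have h3 : g * (g⁻¹ * x * g) * g⁻¹ = x := by group
  rwa [h3] at h2

variable [Finite G]

/-- Suppose every proper nontrivial normal subgroup of a group of order 7920 has index two,
and that a subgroup `N` of index two has no nontrivial normal subgroup of order dividing 6.
Then there is no such `N`. -/
theorem false_of_index_two (hG : Nat.card G = 7920) (N : Subgroup G) [hN : N.Normal]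
    (hN2 : N.index = 2)
    (hall : ∀ K : Subgroup G, K.Normal → K ≠ ⊥ → K ≠ ⊤ → K.index = 2)
    (hfin : ∀ M : Subgroup N, M.Normal → M ≠ ⊥ → Nat.card M ∣ 6 → False) : False := by
  haveI : Fact (Nat.Prime 11) := ⟨by norm_num⟩
  have htop : N ≠ ⊤ := by
    intro hc
    rw [hc, Subgroup.index_top] at hN2
    omega
  have hNcard : Nat.card N = 3960 := by
    have h1 := N.card_mul_index
    rw [hG, hN2] at h1
    omega
  obtain ⟨g, hg⟩ : ∃ g, g ∉ N := by
    by_contra hc
    push Not at hc
    exact htop (eq_top_iff.mpr fun x _ => hc x)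
  -- N is simple
  have hsimple : IsSimpleGroup N := by
    haveI : Nontrivial N := by
      rw [← Finite.one_lt_card_iff_nontrivial, hNcard]; norm_num
    refine ⟨fun M hM => ?_⟩
    haveI := hM
    by_contra hcon2
    push Not at hcon2
    obtain ⟨hMbot, hMtop⟩ := hcon2
    set M₀ : Subgroup G := M.map N.subtype with hM₀
    have hM₀N : M₀ ≤ N := Subgroup.map_subtype_le _
    have hM₀card : Nat.card M₀ = Nat.card M := Subgroup.card_subtype _ _
    have hnorm : ∀ n ∈ N, ∀ x ∈ M₀, n * x * n⁻¹ ∈ M₀ := by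
      intro n hn x hx
      obtain ⟨m, hmM, rfl⟩ := Subgroup.mem_map.mp hx
      have := hM.conj_mem m hmM ⟨n, hn⟩
      exact Subgroup.mem_map.mpr ⟨_, this, rfl⟩
    set M₁ : Subgroup G := M₀.map (MulAut.conj g).toMonoidHom with hM₁
    have hM₁N : M₁ ≤ N := map_conj_le N M₀ hM₀N g
    have hM₁card : Nat.card M₁ = Nat.card M := by
      rw [hM₁, Subgroup.card_map_of_injective (MulAut.conj g).injective, hM₀card]
    have hMlt : Nat.card M < 3960 := by
      have hle : Nat.card M ≤ Nat.card N := Subgroup.card_le_card_group M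
      have hne : Nat.card M ≠ Nat.card N := fun hc => hMtop (Subgroup.eq_top_of_card_eq M hc)
      omega
    haveI hDn : (M₀ ⊓ M₁).Normal := normal_inf_conj N hN2 M₀ hnorm g hg
    have hDle : Nat.card (M₀ ⊓ M₁ : Subgroup G) ≤ Nat.card M := by
      rw [← hM₀card]; exact Subgroup.card_le_of_le inf_le_left
    have hDbot : M₀ ⊓ M₁ = ⊥ := by
      by_contra hDne
      have hDtop : M₀ ⊓ M₁ ≠ ⊤ := by
        intro hc
        rw [hc, Subgroup.card_top, hG] at hDle
        omega
      have hidx := hall (M₀ ⊓ M₁) hDn hDne hDtop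
      have h1 := (M₀ ⊓ M₁).card_mul_index
      rw [hG, hidx] at h1
      omega
    -- the conjugate as a subgroup of N
    set M' : Subgroup N := M₁.subgroupOf N with hM'
    have hM'card : Nat.card M' = Nat.card M := by
      rw [hM', Nat.card_congr (Subgroup.subgroupOfEquivOfLe hM₁N).toEquiv, hM₁card]
    haveI hM'n : M'.Normal := by
      refine ⟨fun x hx n => ?_⟩
      rw [hM', Subgroup.mem_subgroupOf] at hx ⊢
      exact conj_normalized N M₀ hnorm g n n.2 x hx
    have hdisj : M ⊓ M' = ⊥ := by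
      rw [eq_bot_iff]
      intro x hx
      rw [Subgroup.mem_bot]
      have h1 : (x : G) ∈ M₀ := Subgroup.mem_map.mpr ⟨x, hx.1, rfl⟩
      have h2 : (x : G) ∈ M₁ := Subgroup.mem_subgroupOf.mp hx.2
      have h3 : (x : G) ∈ (M₀ ⊓ M₁ : Subgroup G) := ⟨h1, h2⟩
      rw [hDbot, Subgroup.mem_bot] at h3
      exact Subtype.ext h3
    have hsup := Cfsg.Agent.Lib.Helper3.card_sup_of_normal_of_disjoint M M' hdisj
    have hdvd : Nat.card M * Nat.card M ∣ 3960 := by
      have := Subgroup.card_subgroup_dvd_card (M ⊔ M')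
      rwa [hsup, hM'card, hNcard] at this
    exact hfin M hM hMbot (sq_dvd_3960 _ hdvd)
  -- N is not commutative
  have hnc : ¬ IsMulCommutative N := by
    intro hc
    obtain ⟨x, hx⟩ := exists_prime_orderOf_dvd_card' (G := N) 11 (by rw [hNcard]; norm_num)
    have hZn : (zpowers x).Normal := by
      refine ⟨fun y hy n => ?_⟩
      have : n * y * n⁻¹ = y := by
        rw [hc.is_comm.comm n y]; group
      rwa [this]
    have hZcard : Nat.card (zpowers x) = 11 := by rw [Nat.card_zpowers, hx]
    rcases hsimple.eq_bot_or_eq_top_of_normal _ hZn with h1 | h1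
    · rw [h1, Subgroup.card_bot] at hZcard; omega
    · rw [h1, Subgroup.card_top, hNcard] at hZcard; omega
  haveI := hsimple
  exact ne_3960 (G := N) hnc hNcard

/-- A normal subgroup `M` of order dividing 6 in a group `X`, with `5 ∣ |X : M|`: if there are
no elements of order `10` and `15`, then `M` is trivial. -/
theorem false_of_card_dvd_six {X : Type*} [Group X] [Finite X] (h2 : NoOrd X (2 * 5))
    (h3 : NoOrd X (3 * 5)) (M : Subgroup X) [M.Normal] (hMbot : M ≠ ⊥) (h6 : Nat.card M ∣ 6)
    (h5idx : 5 ∣ M.index) : False := by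
  haveI : Fact (Nat.Prime 5) := ⟨Nat.prime_five⟩
  have hM1 : Nat.card M ≠ 1 := fun hc => hMbot (Subgroup.card_eq_one.mp hc)
  obtain ⟨r, hr, hrM⟩ := Nat.exists_prime_and_dvd hM1
  have hMpos : Nat.card M ≠ 0 := Nat.card_pos.ne'
  have hr6 : r ∣ 2 * 3 := dvd_trans hrM (by norm_num; exact h6)
  rcases (Nat.Prime.dvd_mul hr).mp hr6 with hr2 | hr3
  · have hr2' : r = 2 := (Nat.prime_dvd_prime_iff_eq hr Nat.prime_two).mp hr2
    subst hr2'
    haveI : Fact (Nat.Prime 2) := ⟨Nat.prime_two⟩
    have key := h2.rpart_modEq_one (by norm_num) M h5idx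
    have ha1 : 1 ≤ (Nat.card M).factorization 2 :=
      (Nat.prime_two.dvd_iff_one_le_factorization hMpos).mp hrM
    have hpow : 2 ^ (Nat.card M).factorization 2 ∣ 6 :=
      dvd_trans (Nat.ordProj_dvd _ _) h6
    have ha : (Nat.card M).factorization 2 = 1 := by
      by_contra hne
      have : 2 ^ 2 ∣ 6 := dvd_trans (pow_dvd_pow 2 (by omega)) hpow
      norm_num at this
    rw [ha] at key
    exact absurd key (by decide)
  · have hr3' : r = 3 := (Nat.prime_dvd_prime_iff_eq hr Nat.prime_three).mp hr3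
    subst hr3'
    haveI : Fact (Nat.Prime 3) := ⟨Nat.prime_three⟩
    have key := h3.rpart_modEq_one (by norm_num) M h5idx
    have ha1 : 1 ≤ (Nat.card M).factorization 3 :=
      (Nat.prime_three.dvd_iff_one_le_factorization hMpos).mp hrM
    have hpow : 3 ^ (Nat.card M).factorization 3 ∣ 6 :=
      dvd_trans (Nat.ordProj_dvd _ _) h6
    have ha : (Nat.card M).factorization 3 = 1 := by
      by_contra hne
      have : 3 ^ 2 ∣ 6 := dvd_trans (pow_dvd_pow 3 (by omega)) hpow
      norm_num at this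
    rw [ha] at key
    exact absurd key (by decide)

/-- If 5 is isolated in the prime graph of a group of order 7920, the group is simple. -/
theorem Iso5.isSimpleGroup (h : Iso5 G) (hG : Nat.card G = 7920) : IsSimpleGroup G := by
  haveI : Nontrivial G := by
    rw [← Finite.one_lt_card_iff_nontrivial, hG]; norm_num
  refine ⟨fun N hN => ?_⟩
  haveI := hN
  by_contra hcon
  push Not at hcon
  obtain ⟨hbot, htop⟩ := hcon
  have hN2 := h.index_normal hG N hbot htop
  have hNcard : Nat.card N = 3960 := by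
    have h1 := N.card_mul_index
    rw [hG, hN2] at h1
    omega
  refine false_of_index_two hG N hN2
    (fun K hK hKbot hKtop => by haveI := hK; exact h.index_normal hG K hKbot hKtop) ?_
  intro M hM hMbot h6
  haveI := hM
  have h5M : ¬ 5 ∣ Nat.card M := by
    intro hc
    have := dvd_trans hc h6
    norm_num at this
  have h5idx : 5 ∣ M.index := by
    have h1 := M.card_mul_index
    rw [hNcard] at h1
    have h2 : (5 : ℕ) ∣ Nat.card M * M.index := by rw [h1]; norm_num
    rcases (Nat.Prime.dvd_mul Nat.prime_five).mp h2 with h3 | h3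
    · exact absurd h3 h5M
    · exact h3
  exact false_of_card_dvd_six (h.h2.symm.subgroup N) (h.h3.symm.subgroup N) M hMbot h6 h5idx

end Cfsg.Agent.Lib.Helper5.PG
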