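import Mathlib
import Cfsg.Agent.Lib.Helper5.PG.PG10

set_option autoImplicit false

/-!
# Groups of order 7920 in which 3 is an isolated vertex of the prime graph are simple
-/

namespace Cfsg.Agent.Lib.Helper5.PG

open Subgroup

variable {G : Type*} [Group G] [Finite G]

/-- An element of order 11 normalizing a subgroup of order dividing 16 centralizes it. -/
theorem le_centralizer_of_card_dvd_16 {x : G} (hx : orderOf x = 11) (N : Subgroup G)
    (hn : ∀ r ∈ N, x * r * x⁻¹ ∈ N) (hN : Nat.card N ∣ 16) :
    N ≤ centralizer ({x} : Set G) := by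
  haveI : Fact (Nat.Prime 11) := ⟨by norm_num⟩
  have hx11 : x ^ 11 = 1 := by rw [← hx]; exact pow_orderOf_eq_one x
  have hmod := card_modEq_card_inf_centralizer hx11 N hn
  have hle : (N ⊓ centralizer ({x} : Set G) : Subgroup G) ≤ N := inf_le_left
  have hdvd' := Subgroup.card_dvd_of_le hle
  have hdiv : Nat.divisors 16 = {1, 2, 4, 8, 16} := by decide
  have hmemN : Nat.card N ∈ Nat.divisors 16 := Nat.mem_divisors.mpr ⟨hN, by norm_num⟩
  have hmemC : Nat.card (N ⊓ centralizer ({x} : Set G) : Subgroup G) ∈ Nat.divisors 16 :=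
    Nat.mem_divisors.mpr ⟨dvd_trans hdvd' hN, by norm_num⟩
  rw [hdiv] at hmemN hmemC
  simp only [Finset.mem_insert, Finset.mem_singleton] at hmemN hmemC
  have heq : Nat.card (N ⊓ centralizer ({x} : Set G) : Subgroup G) = Nat.card N := by
    have hmod' : Nat.card N % 11 = Nat.card (N ⊓ centralizer ({x} : Set G) : Subgroup G) % 11 :=
      hmod
    rcases hmemN with h1 | h1 | h1 | h1 | h1 <;> rcases hmemC with h2 | h2 | h2 | h2 | h2 <;>
      rw [h1, h2] at hmod' ⊢ <;> omega
  have : (N ⊓ centralizer ({x} : Set G) : Subgroup G) = N := by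
    apply Subgroup.eq_of_le_of_card_ge hle
    rw [heq]
  rw [← this]; exact inf_le_right

/-- The three hypotheses: `3` is isolated in the prime graph. -/
structure Iso3 (G : Type*) [Group G] : Prop where
  h2 : NoOrd G (3 * 2)
  h5 : NoOrd G (3 * 5)
  h11 : NoOrd G (3 * 11)

theorem three_dvd_index_of_not_dvd (hG : Nat.card G = 7920) (N : Subgroup G)
    (h3 : ¬ 3 ∣ Nat.card N) : 3 ∣ N.index := by
  have h1 := N.card_mul_index
  rw [hG] at h1
  have h2 : (3 : ℕ) ∣ Nat.card N * N.index := by rw [h1]; norm_num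
  rcases (Nat.Prime.dvd_mul Nat.prime_three).mp h2 with h3' | h3'
  · exact absurd h3' h3
  · exact h3'

/-- A normal subgroup of order prime to 3 has order dividing 16. -/
theorem Iso3.card_dvd_16 (h : Iso3 G) (hG : Nat.card G = 7920) (N : Subgroup G) [N.Normal]
    (h3 : ¬ 3 ∣ Nat.card N) : Nat.card N ∣ 16 := by
  haveI : Fact (Nat.Prime 3) := ⟨Nat.prime_three⟩
  haveI : Fact (Nat.Prime 5) := ⟨Nat.prime_five⟩
  haveI : Fact (Nat.Prime 11) := ⟨by norm_num⟩
  have hidx := three_dvd_index_of_not_dvd hG N h3
  have hdvd : Nat.card N ∣ 7920 := by rw [← hG]; exact Subgroup.card_subgroup_dvd_card N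
  refine dvd_16_of_dvd_7920 hdvd h3 ?_ ?_
  · intro h5
    have key := h.h5.symm.rpart_modEq_one (by norm_num) N hidx
    rcases rpart_cases hG N Nat.prime_five h5 with ⟨h1, -⟩ | ⟨h1, -⟩ | ⟨-, ha⟩ | ⟨h1, -⟩
    · omega
    · omega
    · rw [ha] at key; exact absurd key (by decide)
    · omega
  · intro h11
    have key := h.h11.symm.rpart_modEq_one (by norm_num) N hidx
    rcases rpart_cases hG N (by norm_num) h11 with ⟨h1, -⟩ | ⟨h1, -⟩ | ⟨h1, -⟩ | ⟨-, ha⟩
    · omega
    · omega
    · omega
    · rw [ha] at key; exact absurd key (by decide)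

/-- A nontrivial normal subgroup has order divisible by 3. -/
theorem Iso3.dvd_card_normal (h : Iso3 G) (hG : Nat.card G = 7920) (N : Subgroup G)
    [hNn : N.Normal] (hN : N ≠ ⊥) : 3 ∣ Nat.card N := by
  haveI : Fact (Nat.Prime 3) := ⟨Nat.prime_three⟩
  haveI : Fact (Nat.Prime 2) := ⟨Nat.prime_two⟩
  haveI : Fact (Nat.Prime 11) := ⟨by norm_num⟩
  by_contra h3
  have h16 := h.card_dvd_16 hG N h3
  have hN1 : Nat.card N ≠ 1 := fun hc => hN (Subgroup.card_eq_one.mp hc)
  have h2 : 2 ∣ Nat.card N := by
    obtain ⟨r, hr, hrN⟩ := Nat.exists_prime_and_dvd hN1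
    have : r ∣ 2 ^ 4 := dvd_trans hrN (by norm_num; exact h16)
    have hr2 : r = 2 := (Nat.prime_dvd_prime_iff_eq hr Nat.prime_two).mp (hr.dvd_of_dvd_pow this)
    rw [← hr2]; exact hrN
  obtain ⟨x, hx⟩ := exists_prime_orderOf_dvd_card' (G := G) 11 (by rw [hG]; norm_num)
  have hNle := le_centralizer_of_card_dvd_16 hx N (fun r hr => hNn.conj_mem r hr x) h16
  haveI : (centralizer (N : Set G)).Normal := Subgroup.normal_centralizer
  have hxC : x ∈ centralizer (N : Set G) := by
    rw [Subgroup.mem_centralizer_iff]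
    intro n hn
    have := (Subgroup.mem_centralizer_iff.mp (hNle hn)) x (Set.mem_singleton x)
    exact this.symm
  have hC11 : 11 ∣ Nat.card (centralizer (N : Set G)) := by
    have := orderOf_dvd_natCard (⟨x, hxC⟩ : centralizer (N : Set G))
    rwa [← Subgroup.orderOf_coe, hx] at this
  have hC3 : ¬ 3 ∣ Nat.card (centralizer (N : Set G)) := by
    obtain ⟨z, hzN, hz⟩ := exists_mem_orderOf_eq (s := 2) N h2
    have hZcard : Nat.card (zpowers z) = 2 := by rw [Nat.card_zpowers, hz]
    have h3Z := h.h2.symm.not_dvd_card_centralizer (by norm_num) (zpowers z) hZcard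
    intro hcon
    apply h3Z
    refine dvd_trans hcon (Subgroup.card_dvd_of_le ?_)
    apply Subgroup.centralizer_le
    intro y hy
    obtain ⟨k, rfl⟩ := Subgroup.mem_zpowers_iff.mp hy
    exact N.zpow_mem hzN k
  have := h.card_dvd_16 hG _ hC3
  have h11 : (11 : ℕ) ∣ 16 := dvd_trans hC11 this
  norm_num at h11

/-- All subgroups of order 11 have normalizers of the same order. -/
theorem card_normalizer_eq_of_card_11 (hG : Nat.card G = 7920) (P P' : Subgroup G)
    (hP : Nat.card P = 11) (hP' : Nat.card P' = 11) :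
    Nat.card (normalizer (P : Set G)) = Nat.card (normalizer (P' : Set G)) := by
  haveI : Fact (Nat.Prime 11) := ⟨by norm_num⟩
  obtain ⟨S, hS⟩ := exists_sylow_eq (p := 11) (m := 720) (by rw [hG]) (by norm_num) P hP
  obtain ⟨S', hS'⟩ := exists_sylow_eq (p := 11) (m := 720) (by rw [hG]) (by norm_num) P' hP'
  have h1 := card_normalizer_mul_card_sylow S
  have h2 := card_normalizer_mul_card_sylow S'
  rw [hS] at h1
  rw [hS', ← h1] at h2
  have hpos : 0 < Nat.card (Sylow 11 G) := Nat.card_pos
  exact (Nat.eq_of_mul_eq_mul_right hpos h2).symm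

/-- If 3 is isolated in the prime graph of a group of order 7920, the group is simple. -/
theorem Iso3.isSimpleGroup (h : Iso3 G) (hG : Nat.card G = 7920) : IsSimpleGroup G := by
  haveI : Fact (Nat.Prime 3) := ⟨Nat.prime_three⟩
  haveI : Fact (Nat.Prime 5) := ⟨Nat.prime_five⟩
  haveI : Fact (Nat.Prime 11) := ⟨by norm_num⟩
  haveI : Nontrivial G := by
    rw [← Finite.one_lt_card_iff_nontrivial, hG]; norm_num
  -- the index of a proper nontrivial normal subgroup is prime to 5 and 11
  have hidx5 : ∀ K : Subgroup G, K.Normal → K ≠ ⊥ → ¬ 5 ∣ K.index := by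
    intro K hK hKbot h5
    haveI := hK
    have h3 := h.dvd_card_normal hG K hKbot
    have key := h.h5.rpart_modEq_one (by norm_num) K h5
    rcases rpart_cases hG K Nat.prime_three h3 with ⟨h1, -⟩ | ⟨-, ha⟩ | ⟨h1, -⟩ | ⟨h1, -⟩
    · omega
    · rcases ha with ha | ha <;> rw [ha] at key <;> exact absurd key (by decide)
    · omega
    · omega
  have hidx11 : ∀ K : Subgroup G, K.Normal → K ≠ ⊥ → ¬ 11 ∣ K.index := by
    intro K hK hKbot h11
    haveI := hK
    have h3 := h.dvd_card_normal hG K hKbot
    have key := h.h11.rpart_modEq_one (by norm_num) K h11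
    rcases rpart_cases hG K Nat.prime_three h3 with ⟨h1, -⟩ | ⟨-, ha⟩ | ⟨h1, -⟩ | ⟨h1, -⟩
    · omega
    · rcases ha with ha | ha <;> rw [ha] at key <;> exact absurd key (by decide)
    · omega
    · omega
  -- every proper nontrivial normal subgroup has index two
  have hall : ∀ K : Subgroup G, K.Normal → K ≠ ⊥ → K ≠ ⊤ → K.index = 2 := by
    intro N hN hbot htop
    haveI := hN
    have h5i := hidx5 N hN hbot
    have h11i := hidx11 N hN hbot
    have hcm := N.card_mul_index
    rw [hG] at hcm
    have h5N : 5 ∣ Nat.card N := by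
      have h2 : (5 : ℕ) ∣ Nat.card N * N.index := by rw [hcm]; norm_num
      rcases (Nat.Prime.dvd_mul Nat.prime_five).mp h2 with h3 | h3
      · exact h3
      · exact absurd h3 h5i
    have h11N : 11 ∣ Nat.card N := by
      have h2 : (11 : ℕ) ∣ Nat.card N * N.index := by rw [hcm]; norm_num
      rcases (Nat.Prime.dvd_mul (by norm_num)).mp h2 with h3 | h3
      · exact h3
      · exact absurd h3 h11i
    have hidx1 : N.index ≠ 1 := fun hc => htop (Subgroup.index_eq_one.mp hc)
    -- Sylow 11-subgroups
    obtain ⟨R, hRN, hRp, hRcard, hmul⟩ := exists_sylow_sub' N 11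
    have hfact : (Nat.card N).factorization 11 = 1 := by
      rcases rpart_cases hG N (by norm_num) h11N with ⟨h1, -⟩ | ⟨h1, -⟩ | ⟨h1, -⟩ | ⟨-, h1⟩
      · omega
      · omega
      · omega
      · exact h1
    rw [hfact, pow_one] at hRcard
    have h3R : ¬ 3 ∣ Nat.card (normalizer (R : Set G)) := by
      intro hc
      obtain ⟨y, hyN, hy⟩ := exists_mem_orderOf_eq (s := 3) _ hc
      have := h.h11.symm.card_modEq_one (by norm_num) (by norm_num) hy R hRp
        (fun x hx => (Subgroup.mem_normalizer_iff.mp hyN x).mp hx)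
      rw [hRcard] at this
      exact absurd this (by decide)
    have hR176 : Nat.card (normalizer (R : Set G)) = 176 := by
      have hdvd : N.index ∣ Nat.card (normalizer (R : Set G)) := ⟨_, by rw [← hmul, mul_comm]⟩
      rcases card_normalizer_11 hG R hRcard with h1 | h1 | h1 | h1
      · rw [h1] at h3R; norm_num at h3R
      · rw [h1] at h3R; norm_num at h3R
      · exact h1
      · exfalso
        rw [h1] at hdvd
        have hmem : N.index ∈ Nat.divisors 55 := Nat.mem_divisors.mpr ⟨hdvd, by norm_num⟩
        have hdiv : Nat.divisors 55 = {1, 5, 11, 55} := by decide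
        rw [hdiv] at hmem
        simp only [Finset.mem_insert, Finset.mem_singleton] at hmem
        rcases hmem with h7 | h7 | h7 | h7
        · exact hidx1 h7
        · exact h5i ⟨1, by rw [h7]⟩
        · exact h11i ⟨1, by rw [h7]⟩
        · exact h5i ⟨11, by rw [h7]⟩
    have hP176 : ∀ P : Subgroup G, Nat.card P = 11 → Nat.card (normalizer (P : Set G)) = 176 :=
      fun P hP => by rw [card_normalizer_eq_of_card_11 hG P R hP hRcard, hR176]
    -- no elements of order 55
    have h55 : NoOrd G (5 * 11) := by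
      intro g hg
      have hg5 : orderOf (g ^ 5) = 11 := by
        rw [orderOf_pow' g (by norm_num), hg]; norm_num
      have hPc : Nat.card (zpowers (g ^ 5)) = 11 := by rw [Nat.card_zpowers, hg5]
      have hgC : g ∈ normalizer ((zpowers (g ^ 5) : Subgroup G) : Set G) := by
        apply Subgroup.centralizer_le_normalizer
        rw [Subgroup.mem_centralizer_iff]
        intro y hy
        obtain ⟨k, rfl⟩ := Subgroup.mem_zpowers_iff.mp hy
        have : Commute (g ^ 5) g := (Commute.refl g).pow_left 5
        exact (this.zpow_left k).eq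
      have := orderOf_dvd_natCard (⟨g, hgC⟩ : normalizer ((zpowers (g ^ 5) : Subgroup G) : Set G))
      rw [← Subgroup.orderOf_coe, hP176 _ hPc] at this
      change orderOf g ∣ 176 at this
      rw [hg] at this
      norm_num at this
    -- Sylow 5-subgroups
    obtain ⟨Q, hQN, hQp, hQcard, hmulQ⟩ := exists_sylow_sub' N 5
    have hfactQ : (Nat.card N).factorization 5 = 1 := by
      rcases rpart_cases hG N Nat.prime_five h5N with ⟨h1, -⟩ | ⟨h1, -⟩ | ⟨-, h1⟩ | ⟨h1, -⟩
      · omega
      · omega
      · exact h1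
      · omega
    rw [hfactQ, pow_one] at hQcard
    have h3Q : ¬ 3 ∣ Nat.card (normalizer (Q : Set G)) := by
      intro hc
      obtain ⟨y, hyN, hy⟩ := exists_mem_orderOf_eq (s := 3) _ hc
      have := h.h5.symm.card_modEq_one (by norm_num) (by norm_num) hy Q hQp
        (fun x hx => (Subgroup.mem_normalizer_iff.mp hyN x).mp hx)
      rw [hQcard] at this
      exact absurd this (by decide)
    have h11Q : ¬ 11 ∣ Nat.card (normalizer (Q : Set G)) := by
      intro hc
      obtain ⟨y, hyN, hy⟩ := exists_mem_orderOf_eq (s := 11) _ hc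
      have := h55.card_modEq_one (by norm_num) (by norm_num) hy Q hQp
        (fun x hx => (Subgroup.mem_normalizer_iff.mp hyN x).mp hx)
      rw [hQcard] at this
      exact absurd this (by decide)
    have hQ20 : Nat.card (normalizer (Q : Set G)) = 20 := by
      rcases card_normalizer_5 hG Q hQcard with h1 | h1 | h1 | h1 | h1 | h1 | h1 | h1
      · rw [h1] at h3Q; norm_num at h3Q
      · rw [h1] at h3Q; norm_num at h3Q
      · rw [h1] at h3Q; norm_num at h3Q
      · rw [h1] at h3Q; norm_num at h3Q
      · rw [h1] at h11Q; norm_num at h11Q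
      · rw [h1] at h3Q; norm_num at h3Q
      · rw [h1] at h3Q; norm_num at h3Q
      · exact h1
    rw [hQ20] at hmulQ
    have hdvd20 : N.index ∣ 20 := ⟨_, by rw [← hmulQ, mul_comm]⟩
    have hcases : N.index = 2 ∨ N.index = 4 := by
      have hmem : N.index ∈ Nat.divisors 20 := Nat.mem_divisors.mpr ⟨hdvd20, by norm_num⟩
      have hdiv : Nat.divisors 20 = {1, 2, 4, 5, 10, 20} := by decide
      rw [hdiv] at hmem
      simp only [Finset.mem_insert, Finset.mem_singleton] at hmem
      rcases hmem with h7 | h7 | h7 | h7 | h7 | h7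
      · exact absurd h7 hidx1
      · left; exact h7
      · right; exact h7
      · exact absurd ⟨1, by rw [h7]⟩ h5i
      · exact absurd ⟨2, by rw [h7]⟩ h5i
      · exact absurd ⟨4, by rw [h7]⟩ h5i
    rcases hcases with h7 | h7
    · exact h7
    · exfalso
      rw [h7] at hmulQ hcm
      have hD : Nat.card (N ⊓ normalizer (Q : Set G) : Subgroup G) = 5 := by omega
      have hNcard : Nat.card N = 1980 := by omega
      have hQD : Q ≤ N ⊓ normalizer (Q : Set G) := le_inf hQN Subgroup.le_normalizer
      have hDQ : (N ⊓ normalizer (Q : Set G) : Subgroup G) = Q := by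
        symm
        apply Subgroup.eq_of_le_of_card_ge hQD
        rw [hD, hQcard]
      obtain ⟨K, hKn, hKN, hKcard⟩ := exists_normal_complement_sub (p := 5) N Q hQN
        (by rw [hfactQ, pow_one, hQcard]) (by
          intro g hgN hgn
          have hgQ : g ∈ Q := by rw [← hDQ]; exact ⟨hgN, hgn⟩
          exact le_centralizer_of_card_prime Q hQcard hgQ)
      rw [hQcard, hNcard] at hKcard
      have hK396 : Nat.card K = 396 := by omega
      have hKbot : K ≠ ⊥ := by
        intro hc
        rw [hc, Subgroup.card_bot] at hK396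
        omega
      apply hidx5 K hKn hKbot
      have h1 := K.card_mul_index
      rw [hG, hK396] at h1
      exact ⟨4, by omega⟩
  refine ⟨fun N hN => ?_⟩
  haveI := hN
  by_contra hcon
  push Not at hcon
  obtain ⟨hbot, htop⟩ := hcon
  have hN2 := hall N hN hbot htop
  have hNcard : Nat.card N = 3960 := by
    have h1 := N.card_mul_index
    rw [hG, hN2] at h1
    omega
  refine false_of_index_two hG N hN2 hall ?_
  intro M hM hMbot h6
  haveI := hM
  -- 3 ∣ |M| is impossible by the element of order 5; otherwise |M| = 2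
  have hM1 : Nat.card M ≠ 1 := fun hc => hMbot (Subgroup.card_eq_one.mp hc)
  have hMpos : Nat.card M ≠ 0 := Nat.card_pos.ne'
  have hcm := M.card_mul_index
  rw [hNcard] at hcm
  by_cases h3M : 3 ∣ Nat.card M
  · have h5M : ¬ 5 ∣ Nat.card M := by
      intro hc
      have := dvd_trans hc h6
      norm_num at this
    have h5idx : 5 ∣ M.index := by
      have h2 : (5 : ℕ) ∣ Nat.card M * M.index := by rw [hcm]; norm_num
      rcases (Nat.Prime.dvd_mul Nat.prime_five).mp h2 with h3 | h3
      · exact absurd h3 h5M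
      · exact h3
    have key := (h.h5.subgroup N).rpart_modEq_one (by norm_num) M h5idx
    have ha1 : 1 ≤ (Nat.card M).factorization 3 :=
      (Nat.prime_three.dvd_iff_one_le_factorization hMpos).mp h3M
    have hpow : 3 ^ (Nat.card M).factorization 3 ∣ 6 :=
      dvd_trans (Nat.ordProj_dvd _ _) h6
    have ha : (Nat.card M).factorization 3 = 1 := by
      by_contra hne
      have : 3 ^ 2 ∣ 6 := dvd_trans (pow_dvd_pow 3 (by omega)) hpow
      norm_num at this
    rw [ha] at key
    exact absurd key (by decide)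
  · -- |M| = 2
    have hM2 : Nat.card M = 2 := by
      have hmem : Nat.card M ∈ Nat.divisors 6 := Nat.mem_divisors.mpr ⟨h6, by norm_num⟩
      have hdiv : Nat.divisors 6 = {1, 2, 3, 6} := by decide
      rw [hdiv] at hmem
      simp only [Finset.mem_insert, Finset.mem_singleton] at hmem
      rcases hmem with h7 | h7 | h7 | h7
      · exact absurd h7 hM1
      · exact h7
      · exact absurd ⟨1, by rw [h7]⟩ h3M
      · exact absurd ⟨2, by rw [h7]⟩ h3M
    have h3idx : 3 ∣ M.index := by
      rw [hM2] at hcm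
      exact ⟨660, by omega⟩
    haveI : Fact (Nat.Prime 2) := ⟨Nat.prime_two⟩
    have key := (h.h2.symm.subgroup N).rpart_modEq_one (by norm_num) M h3idx
    have ha : (Nat.card M).factorization 2 = 1 := by
      rw [hM2]; exact Nat.Prime.factorization_self Nat.prime_two
    rw [ha] at key
    exact absurd key (by decide)

end Cfsg.Agent.Lib.Helper5.PG
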