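import Mathlib
import Cfsg.Agent.Lib.Helper5.PG.PG11

set_option autoImplicit false

/-!
# Groups of order 7920: the remaining disconnected prime graphs
-/

namespace Cfsg.Agent.Lib.Helper5.PG

open Subgroup

/-- A divisor of 7920 prime to 2 and 3 divides 55. -/
theorem dvd_55_of_dvd_7920 {n : ℕ} (h : n ∣ 7920) (h2 : ¬ 2 ∣ n) (h3 : ¬ 3 ∣ n) : n ∣ 55 := by
  have e : (7920 : ℕ) = 2 * (2 * (2 * (2 * (3 * (3 * 55))))) := by norm_num
  rw [e] at h
  have p2 := Nat.prime_two
  have p3 := Nat.prime_three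
  exact strip_prime p3 (strip_prime p3 (strip_prime p2 (strip_prime p2
    (strip_prime p2 (strip_prime p2 h h2) h2) h2) h2) h3) h3

/-- A divisor of 7920 prime to 2 and 5 divides 99. -/
theorem dvd_99_of_dvd_7920 {n : ℕ} (h : n ∣ 7920) (h2 : ¬ 2 ∣ n) (h5 : ¬ 5 ∣ n) : n ∣ 99 := by
  have e : (7920 : ℕ) = 2 * (2 * (2 * (2 * (5 * 99)))) := by norm_num
  rw [e] at h
  have p2 := Nat.prime_two
  have p5 := Nat.prime_five
  exact strip_prime p5 (strip_prime p2 (strip_prime p2
    (strip_prime p2 (strip_prime p2 h h2) h2) h2) h2) h5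

/-- A divisor of 7920 prime to 3 and 5 divides 176. -/
theorem dvd_176_of_dvd_7920 {n : ℕ} (h : n ∣ 7920) (h3 : ¬ 3 ∣ n) (h5 : ¬ 5 ∣ n) : n ∣ 176 := by
  have e : (7920 : ℕ) = 3 * (3 * (5 * 176)) := by norm_num
  rw [e] at h
  have p3 := Nat.prime_three
  have p5 := Nat.prime_five
  exact strip_prime p5 (strip_prime p3 (strip_prime p3 h h3) h3) h5

/-- A divisor of 7920 prime to 2 and 11 divides 45. -/
theorem dvd_45_of_dvd_7920 {n : ℕ} (h : n ∣ 7920) (h2 : ¬ 2 ∣ n) (h11 : ¬ 11 ∣ n) : n ∣ 45 := by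
  have e : (7920 : ℕ) = 2 * (2 * (2 * (2 * (11 * 45)))) := by norm_num
  rw [e] at h
  have p2 := Nat.prime_two
  have p11 : Nat.Prime 11 := by norm_num
  exact strip_prime p11 (strip_prime p2 (strip_prime p2
    (strip_prime p2 (strip_prime p2 h h2) h2) h2) h2) h11

variable {G : Type*} [Group G] [Finite G]

omit [Finite G] in
theorem mem_centralizer_zpowers_pow (g : G) (k : ℕ) :
    g ∈ centralizer ((zpowers (g ^ k) : Subgroup G) : Set G) := by
  rw [Subgroup.mem_centralizer_iff]
  intro y hy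
  obtain ⟨j, rfl⟩ := Subgroup.mem_zpowers_iff.mp hy
  have : Commute (g ^ k) g := (Commute.refl g).pow_left k
  exact (this.zpow_left j).eq

theorem orderOf_dvd_card_centralizer_zpowers_pow (g : G) (k : ℕ) :
    orderOf g ∣ Nat.card (centralizer ((zpowers (g ^ k) : Subgroup G) : Set G)) := by
  have := orderOf_dvd_natCard
    (⟨g, mem_centralizer_zpowers_pow g k⟩ : centralizer ((zpowers (g ^ k) : Subgroup G) : Set G))
  rwa [← Subgroup.orderOf_coe] at this

/-- A subgroup of order 11 central in its normalizer, when 2 or 3 is not adjacent to 11. -/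
theorem false_of_normalizer_le_centralizer_11 (hG : Nat.card G = 7920) (P : Subgroup G)
    (hP : Nat.card P = 11) (hNC : normalizer (P : Set G) ≤ centralizer (P : Set G))
    (h : NoOrd G (2 * 11) ∨ NoOrd G (3 * 11)) : False := by
  haveI : Fact (Nat.Prime 11) := ⟨by norm_num⟩
  haveI : Fact (Nat.Prime 2) := ⟨Nat.prime_two⟩
  haveI : Fact (Nat.Prime 3) := ⟨Nat.prime_three⟩
  obtain ⟨S, hS⟩ := exists_sylow_eq (p := 11) (m := 720) (by rw [hG]) (by norm_num) P hP
  obtain ⟨K, hKn, hKcard⟩ := exists_normal_complement S (by rw [hS]; exact hNC)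
  rw [hS, hP, hG] at hKcard
  have hK720 : Nat.card K = 720 := by omega
  haveI := hKn
  have hidx : 11 ∣ K.index := by
    have h1 := K.card_mul_index
    rw [hG, hK720] at h1
    exact ⟨1, by omega⟩
  rcases h with h | h
  · have key := h.rpart_modEq_one (by norm_num) K hidx
    rcases rpart_cases hG K Nat.prime_two (by rw [hK720]; norm_num) with
      ⟨-, ha⟩ | ⟨h1, -⟩ | ⟨h1, -⟩ | ⟨h1, -⟩
    · rcases ha with ha | ha | ha | ha <;> rw [ha] at key <;> exact absurd key (by decide)
    · omega
    · omega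
    · omega
  · have key := h.rpart_modEq_one (by norm_num) K hidx
    rcases rpart_cases hG K Nat.prime_three (by rw [hK720]; norm_num) with
      ⟨h1, -⟩ | ⟨-, ha⟩ | ⟨h1, -⟩ | ⟨h1, -⟩
    · omega
    · rcases ha with ha | ha <;> rw [ha] at key <;> exact absurd key (by decide)
    · omega
    · omega

theorem divisors_ten {d : ℕ} (hd : d ∣ 10) : d = 1 ∨ d = 2 ∨ d = 5 ∨ d = 10 := by
  have hmem : d ∈ Nat.divisors 10 := Nat.mem_divisors.mpr ⟨hd, by norm_num⟩
  have hdiv : Nat.divisors 10 = {1, 2, 5, 10} := by decide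
  rw [hdiv] at hmem
  simpa using hmem

theorem divisors_four {d : ℕ} (hd : d ∣ 4) : d = 1 ∨ d = 2 ∨ d = 4 := by
  have hmem : d ∈ Nat.divisors 4 := Nat.mem_divisors.mpr ⟨hd, by norm_num⟩
  have hdiv : Nat.divisors 4 = {1, 2, 4} := by decide
  rw [hdiv] at hmem
  simpa using hmem

/-- If `|C_G(P)|` is odd for a subgroup `P` of order 11 then `|N_G(P)| = 55`. -/
theorem card_normalizer_of_odd_centralizer (hG : Nat.card G = 7920) (P : Subgroup G)
    (hP : Nat.card P = 11) (h2 : ¬ 2 ∣ Nat.card (centralizer (P : Set G))) :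
    Nat.card (normalizer (P : Set G)) = 55 ∧
      (Nat.card (centralizer (P : Set G)) = 11 ∨ Nat.card (centralizer (P : Set G)) = 55) := by
  haveI : Fact (Nat.Prime 11) := ⟨by norm_num⟩
  obtain ⟨d, hd, hmul⟩ := exists_card_centralizer_mul P hP
  have hd10 : d ∣ 10 := hd
  rcases card_normalizer_11 hG P hP with h1 | h1 | h1 | h1 <;> rw [h1] at hmul <;>
    rcases divisors_ten hd10 with rfl | rfl | rfl | rfl <;>
    first | omega | exact ⟨h1, by omega⟩

/-- If there is no element of order 22, the group is simple. -/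
theorem isSimpleGroup_of_noOrd_22 (hG : Nat.card G = 7920) (h : NoOrd G (11 * 2)) :
    IsSimpleGroup G := by
  haveI : Fact (Nat.Prime 11) := ⟨by norm_num⟩
  haveI : Fact (Nat.Prime 2) := ⟨Nat.prime_two⟩
  have hodd : ∀ P : Subgroup G, Nat.card P = 11 → ¬ 2 ∣ Nat.card (centralizer (P : Set G)) :=
    fun P hP => h.not_dvd_card_centralizer (by norm_num) P hP
  have hC11 : ∀ P : Subgroup G, Nat.card P = 11 → Nat.card (centralizer (P : Set G)) = 11 := by
    intro P hP
    obtain ⟨hN, hC⟩ := card_normalizer_of_odd_centralizer hG P hP (hodd P hP)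
    rcases hC with h1 | h1
    · exact h1
    · exfalso
      have hNC : normalizer (P : Set G) ≤ centralizer (P : Set G) := by
        have : centralizer (P : Set G) = normalizer (P : Set G) := by
          apply Subgroup.eq_of_le_of_card_ge (Subgroup.centralizer_le_normalizer _)
          rw [hN, h1]
        rw [this]
      exact false_of_normalizer_le_centralizer_11 hG P hP hNC (Or.inl h.symm)
  have h33 : NoOrd G (11 * 3) := by
    intro g hg
    have hg3 : orderOf (g ^ 3) = 11 := by
      rw [orderOf_pow' g (by norm_num), hg]; norm_num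
    have hPc : Nat.card (zpowers (g ^ 3)) = 11 := by rw [Nat.card_zpowers, hg3]
    have hdvd := orderOf_dvd_card_centralizer_zpowers_pow g 3
    rw [hg, hC11 _ hPc] at hdvd
    norm_num at hdvd
  have h55 : NoOrd G (11 * 5) := by
    intro g hg
    have hg5 : orderOf (g ^ 5) = 11 := by
      rw [orderOf_pow' g (by norm_num), hg]; norm_num
    have hPc : Nat.card (zpowers (g ^ 5)) = 11 := by rw [Nat.card_zpowers, hg5]
    have hdvd := orderOf_dvd_card_centralizer_zpowers_pow g 5
    rw [hg, hC11 _ hPc] at hdvd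
    norm_num at hdvd
  exact Iso11.isSimpleGroup ⟨h, h33, h55⟩ hG

/-- The partition `{3, 5} | {2, 11}`. -/
theorem isSimpleGroup_of_3_5 (hG : Nat.card G = 7920) (h32 : NoOrd G (3 * 2))
    (h311 : NoOrd G (3 * 11)) (h52 : NoOrd G (5 * 2)) (h511 : NoOrd G (5 * 11)) :
    IsSimpleGroup G := by
  haveI : Fact (Nat.Prime 11) := ⟨by norm_num⟩
  haveI : Fact (Nat.Prime 2) := ⟨Nat.prime_two⟩
  haveI : Fact (Nat.Prime 3) := ⟨Nat.prime_three⟩
  haveI : Fact (Nat.Prime 5) := ⟨Nat.prime_five⟩
  by_cases h22 : NoOrd G (11 * 2)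
  · exact isSimpleGroup_of_noOrd_22 hG h22
  unfold NoOrd at h22
  push Not at h22
  obtain ⟨g, hg⟩ := h22
  -- a subgroup of order 11 with normalizer of order 176
  have hg2 : orderOf (g ^ 2) = 11 := by
    rw [orderOf_pow' g (by norm_num), hg]; norm_num
  have hPc : Nat.card (zpowers (g ^ 2)) = 11 := by rw [Nat.card_zpowers, hg2]
  have hN176 : Nat.card (normalizer ((zpowers (g ^ 2) : Subgroup G) : Set G)) = 176 := by
    have hdvd := orderOf_dvd_card_centralizer_zpowers_pow g 2
    rw [hg] at hdvd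
    have h3 := h311.symm.not_dvd_card_centralizer (by norm_num) _ hPc
    have h5 := h511.symm.not_dvd_card_centralizer (by norm_num) _ hPc
    have hd : Nat.card (centralizer ((zpowers (g ^ 2) : Subgroup G) : Set G)) ∣ 7920 := by
      rw [← hG]; exact Subgroup.card_subgroup_dvd_card _
    have h176 := dvd_176_of_dvd_7920 hd h3 h5
    obtain ⟨d, hd', hmul⟩ := exists_card_centralizer_mul (zpowers (g ^ 2)) hPc
    have hd10 : d ∣ 10 := hd'
    obtain ⟨c, hc⟩ := hdvd
    obtain ⟨e, he⟩ := h176
    rcases card_normalizer_11 hG _ hPc with h1 | h1 | h1 | h1 <;> rw [h1, hc] at hmul <;>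
      rcases divisors_ten hd10 with rfl | rfl | rfl | rfl <;> first | omega | exact h1
  have hP176 : ∀ P : Subgroup G, Nat.card P = 11 → Nat.card (normalizer (P : Set G)) = 176 :=
    fun P hP => by rw [card_normalizer_eq_of_card_11 hG P _ hP hPc, hN176]
  -- subgroups of order 5
  have hQ : ∀ Q : Subgroup G, Nat.card Q = 5 →
      (Nat.card (normalizer (Q : Set G)) = 45 ∧ Nat.card (centralizer (Q : Set G)) = 45) ∨
      (Nat.card (normalizer (Q : Set G)) = 20 ∧ Nat.card (centralizer (Q : Set G)) = 5) := by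
    intro Q hQc
    have h2 := h52.not_dvd_card_centralizer (by norm_num) Q hQc
    have h11 := h511.not_dvd_card_centralizer (by norm_num) Q hQc
    have hd : Nat.card (centralizer (Q : Set G)) ∣ 7920 := by
      rw [← hG]; exact Subgroup.card_subgroup_dvd_card _
    have h45 := dvd_45_of_dvd_7920 hd h2 h11
    have h5 : 5 ∣ Nat.card (centralizer (Q : Set G)) := by
      rw [← hQc]; exact Subgroup.card_dvd_of_le (le_centralizer_of_card_prime Q hQc)
    obtain ⟨d, hd', hmul⟩ := exists_card_centralizer_mul Q hQc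
    have hd4 : d ∣ 4 := hd'
    have hcases : Nat.card (centralizer (Q : Set G)) = 5 ∨
        Nat.card (centralizer (Q : Set G)) = 15 ∨ Nat.card (centralizer (Q : Set G)) = 45 := by
      have hmem : Nat.card (centralizer (Q : Set G)) ∈ Nat.divisors 45 :=
        Nat.mem_divisors.mpr ⟨h45, by norm_num⟩
      have hdiv : Nat.divisors 45 = {1, 3, 5, 9, 15, 45} := by decide
      rw [hdiv] at hmem
      simp only [Finset.mem_insert, Finset.mem_singleton] at hmem
      rcases hmem with h7 | h7 | h7 | h7 | h7 | h7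
      · rw [h7] at h5; norm_num at h5
      · rw [h7] at h5; norm_num at h5
      · left; exact h7
      · rw [h7] at h5; norm_num at h5
      · right; left; exact h7
      · right; right; exact h7
    rcases card_normalizer_5 hG Q hQc with h1 | h1 | h1 | h1 | h1 | h1 | h1 | h1 <;>
      rw [h1] at hmul <;> rcases hcases with h7 | h7 | h7 <;> rw [h7] at hmul ⊢ <;>
      rcases divisors_four hd4 with rfl | rfl | rfl <;>
      first | omega | exact Or.inl ⟨h1, rfl⟩ | exact Or.inr ⟨h1, rfl⟩
  by_cases hex : ∃ Q : Subgroup G, Nat.card Q = 5 ∧ Nat.card (normalizer (Q : Set G)) = 45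
  · exfalso
    obtain ⟨Q, hQc, hQN⟩ := hex
    have hQC : Nat.card (centralizer (Q : Set G)) = 45 := by
      rcases hQ Q hQc with ⟨-, h1⟩ | ⟨h1, -⟩
      · exact h1
      · omega
    have hNC : normalizer (Q : Set G) ≤ centralizer (Q : Set G) := by
      have : centralizer (Q : Set G) = normalizer (Q : Set G) := by
        apply Subgroup.eq_of_le_of_card_ge (Subgroup.centralizer_le_normalizer _)
        rw [hQN, hQC]
      rw [this]
    obtain ⟨S, hS⟩ := exists_sylow_eq (p := 5) (m := 1584) (by rw [hG]) (by norm_num) Q hQc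
    obtain ⟨K, hKn, hKcard⟩ := exists_normal_complement S (by rw [hS]; exact hNC)
    rw [hS, hQc, hG] at hKcard
    have hK : Nat.card K = 1584 := by omega
    haveI := hKn
    have hidx : K.index = 5 := by
      have h1 := K.card_mul_index
      rw [hG, hK] at h1
      omega
    obtain ⟨R, -, -, hRcard, hRidx⟩ := exists_sylow_sub K 11
    have hfact : (Nat.card K).factorization 11 = 1 := by
      rcases rpart_cases hG K (r := 11) (by norm_num) (by rw [hK]; norm_num) with
        ⟨h1, -⟩ | ⟨h1, -⟩ | ⟨h1, -⟩ | ⟨-, h1⟩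
      · omega
      · omega
      · omega
      · exact h1
    rw [hfact, pow_one] at hRcard
    rw [hidx, hP176 R hRcard] at hRidx
    norm_num at hRidx
  · push Not at hex
    have hC5 : ∀ Q : Subgroup G, Nat.card Q = 5 → Nat.card (centralizer (Q : Set G)) = 5 := by
      intro Q hQc
      rcases hQ Q hQc with ⟨h1, -⟩ | ⟨-, h1⟩
      · exact absurd h1 (hex Q hQc)
      · exact h1
    have h53 : NoOrd G (5 * 3) := by
      intro g' hg'
      have hg3 : orderOf (g' ^ 3) = 5 := by
        rw [orderOf_pow' g' (by norm_num), hg']; norm_num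
      have hQc : Nat.card (zpowers (g' ^ 3)) = 5 := by rw [Nat.card_zpowers, hg3]
      have hdvd := orderOf_dvd_card_centralizer_zpowers_pow g' 3
      rw [hg', hC5 _ hQc] at hdvd
      norm_num at hdvd
    exact Iso5.isSimpleGroup ⟨h52, h53, h511⟩ hG

end Cfsg.Agent.Lib.Helper5.PG
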